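import Groth.Agent.ConsPropLib.LociMod
import Groth.Agent.ConsPropLib.PointwiseProps
import Groth.Agent.H1AssDim.Proper
import Groth.Agent.AssTensorX.OverBase
import Groth.Agent.AssTensorX.Points
import Groth.Agent.AssLib.FlatFibre
import Groth.Agent.FibDim.Minimal
import Groth.Agent.H1GeomRk.Unit
import Groth.Agent.H23.PicMul
import Groth.Agent.ZClosLib.CohDescent
import Groth.Agent.QCoh.LocFree
import Groth.Agent.S4698
import Groth.Agent.PicClLib.Basic

/-!
# Loci of properties of the associated points of the fibres of a module (EGA IV 9.8)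
-/

set_option autoImplicit false
set_option linter.style.haveILetI false
set_option backward.isDefEq.respectTransparency false
set_option backward.isDefEq.respectTransparency.types false

open CategoryTheory CategoryTheory.Limits AlgebraicGeometry Topology TopologicalSpace IsLocalRing
  Groth.Agent.MorLib

namespace Groth.Agent.ConsPropLib

universe u

variable {X Y S : Scheme.{u}}

theorem mem_ass_of_iso {M N : X.Modules} (e : M ≅ N) (x : X) : x ∈ AssSch.Ass M ↔ x ∈ AssSch.Ass N := by
  rw [AssLib.mem_ass_def, AssLib.mem_ass_def]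
  have hb : Function.Bijective (CycLib.stalkLin e.hom x) :=
    ConcreteCategory.bijective_of_isIso
      ((TopCat.Presheaf.stalkFunctor Ab.{u} x).map ((Scheme.Modules.toPresheaf X).map e.hom))
  rw [LinearEquiv.AssociatedPrimes.eq (LinearEquiv.ofBijective _ hb)]

theorem isFP_of_isCoh' [IsLocallyNoetherian X] {G : X.Modules} (hG : Coh.IsCoh G) : CohB1.IsFP G := by
  refine QCoh.isFP_of_finitePresentation hG.1 (fun U : X.affineOpens => U.1)
    (top_unique fun x _ => by
      obtain ⟨U, hU, hxU, -⟩ := exists_isAffineOpen_mem_and_subset (U := (⊤ : X.Opens)) (x := x) trivial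
      exact Opens.mem_iSup.2 ⟨⟨U, hU⟩, hxU⟩) (fun U => U.2) fun U => ?_
  haveI : IsNoetherianRing Γ(X, U) := IsLocallyNoetherian.component_noetherian U
  haveI := QCoh.finite_of_isFT hG.1 hG.2 U.2
  exact Module.finitePresentation_of_finite _ _

/-- The tensor product of two fields has no embedded points, on a cartesian square. -/
theorem eq_of_depthZero_pullback_fields {k L K : Type u} [Field k] [Field L] [Field K] [Algebra k L] [Algebra k K]
    {W : Scheme.{u}} {a : W ⟶ Spec (CommRingCat.of L)} {b : W ⟶ Spec (CommRingCat.of K)}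
    (sq : IsPullback a b (Spec.map (CommRingCat.ofHom (algebraMap k L))) (Spec.map (CommRingCat.ofHom (algebraMap k K))))
    (w : W) (h : AssLib.DepthZero (W.presheaf.stalk w)) (w' : W) (hw : w' ⤳ w) : w' = w := by
  let e : W ≅ Spec (CommRingCat.of (TensorProduct k L K)) := sq.isoPullback ≪≫ pullbackSpecIso k L K
  let Q : PrimeSpectrum (TensorProduct k L K) := e.hom w
  let P : PrimeSpectrum (TensorProduct k L K) := e.hom w'
  have hPQ : P.asIdeal ≤ Q.asIdeal := (PrimeSpectrum.le_iff_specializes P Q).2 (hw.map e.hom.continuous)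
  have h' : AssLib.DepthZero (Localization.AtPrime Q.asIdeal) :=
    h.of_equiv ((asIso (e.hom.stalkMap w)).symm.commRingCatIsoToRingEquiv.trans
      (StructureSheaf.stalkIso (TensorProduct k L K) Q).toRingEquiv.symm)
  exact e.hom.homeomorph.injective (PrimeSpectrum.ext (AssLib.eq_of_depthZero_tensor_fields Q.asIdeal h' P.asIdeal hPQ))

theorem exists_iso_spec_field (T : Scheme.{u}) [IsIntegral T] [Subsingleton T] :
    ∃ (k : Type u) (_ : Field k), Nonempty (T ≅ Spec (CommRingCat.of k)) := by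
  haveI := isAffine_point T
  exact ⟨Γ(T, ⊤), (isField_of_isIntegral_of_subsingleton T).toField, ⟨T.isoSpec⟩⟩

section FieldExt

variable {Y Y' T T' : Scheme.{u}} {g : Y ⟶ T} {g' : Y' ⟶ T'} {e : Y' ⟶ Y} {h : T' ⟶ T}
  [IsIntegral T] [Subsingleton T] [IsIntegral T'] [Subsingleton T'] (sq : IsPullback e g' g h)

include sq

/-- Depth zero points of the fibres of an extension of the base field are maximal in them. -/
theorem maximal_of_depthZero_fiber (y : Y) (w : ↥(e.fiber y))
    (hd : AssLib.DepthZero ((e.fiber y).presheaf.stalk w)) (w' : ↥(e.fiber y)) (hw : w' ⤳ w) : w' = w := by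
  obtain ⟨k, _, ⟨ik⟩⟩ := exists_iso_spec_field T
  obtain ⟨K, _, ⟨iK⟩⟩ := exists_iso_spec_field T'
  obtain ⟨φ, hφ⟩ := Spec.map_surjective (R := CommRingCat.of k) (S := Y.residueField y)
    (Y.fromSpecResidueField y ≫ g ≫ ik.hom)
  obtain ⟨ψ, hψ⟩ := Spec.map_surjective (R := CommRingCat.of k) (S := CommRingCat.of K) (iK.inv ≫ h ≫ ik.hom)
  letI : Algebra k (Y.residueField y) := φ.hom.toAlgebra
  letI : Algebra k K := ψ.hom.toAlgebra
  have big : IsPullback (e.fiberToSpecResidueField y) (e.fiberι y ≫ g') (Y.fromSpecResidueField y ≫ g) h :=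
    (IsPullback.of_hasPullback e (Y.fromSpecResidueField y)).flip.paste_vert sq
  have sq' : IsPullback (e.fiberToSpecResidueField y) (e.fiberι y ≫ g' ≫ iK.hom)
      (Spec.map (CommRingCat.ofHom (algebraMap k (Y.residueField y)))) (Spec.map (CommRingCat.ofHom (algebraMap k K))) := by
    change IsPullback _ _ (Spec.map φ) (Spec.map ψ)
    refine big.of_iso (Iso.refl _) (Iso.refl _) iK ik ?_ ?_ ?_ ?_
    · simp
    · simp
    · simp [hφ]
    · simp [hψ]
  exact @eq_of_depthZero_pullback_fields k (Y.residueField y) K _ _ _ _ _ _ _ _ sq' w hd w' hw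

variable [LocallyOfFiniteType g]

/-- The associated points after an extension of the base field. -/
theorem mem_ass_fieldExt_iff {F : Y.Modules} (hF : Coh.IsQCoh F) {F' : Y'.Modules}
    (i : F' ≅ (Scheme.Modules.pullback e).obj F) (z : Y') :
    z ∈ AssSch.Ass F' ↔ e z ∈ AssSch.Ass F ∧ ∀ u : Y', u ⤳ z → e u = e z → u = z := by
  haveI := isLocallyNoetherian_point T
  haveI := isLocallyNoetherian_point T'
  haveI := flat_point h
  haveI : Flat e := MorphismProperty.of_isPullback sq.flip ‹Flat h›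
  haveI : LocallyOfFiniteType g' := MorphismProperty.of_isPullback sq ‹_›
  haveI : IsLocallyNoetherian Y := LocallyOfFiniteType.isLocallyNoetherian g
  haveI : IsLocallyNoetherian Y' := LocallyOfFiniteType.isLocallyNoetherian g'
  obtain ⟨j⟩ := H23.PicMul.unit ((Scheme.Modules.pullback e).obj F)
  rw [mem_ass_of_iso (i ≪≫ j.symm) z]
  obtain ⟨y, t, rfl⟩ : ∃ (y : Y) (t : ↥(e.fiber y)), e.fiberι y t = z := ⟨e z, e.asFiber z, e.fiberι_asFiber z⟩
  haveI : IsNoetherianRing ((e.fiber y).presheaf.stalk t) := AssTensorX.isNoetherianRing_stalk (e.fiberι y) t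
  have he : e (e.fiberι y t) = y := FibDim.fiber_apply_fiberι e t
  rw [AssTensorX.mem_ass_pullback_tensor_iff e F _ hF (PnCoh.isQCoh_structureModule Y')
    (H1GeomRk.isFlatOver_structureModule e) y t, he,
    mem_ass_of_iso (PicClLib.nonempty_pullback_structureModule (e.fiberι y)).some t, AssTensorX.mem_ass_structureModule]
  refine and_congr_right fun _ => ⟨fun hd u hu heu => ?_, fun hmax => ?_⟩
  · obtain ⟨u', rfl⟩ : u ∈ Set.range (e.fiberι y) := by rw [Scheme.Hom.range_fiberι]; exact heu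
    rw [maximal_of_depthZero_fiber sq y t hd u' ((e.fiberι y).isEmbedding.isInducing.specializes_iff.1 hu)]
  · have hdim : AssLib.DimZero ((e.fiber y).presheaf.stalk t) := (AssLib.dimZero_iff t).2 fun u' hu' =>
      (e.fiberι y).isEmbedding.injective (hmax _ (hu'.map (e.fiberι y).continuous) (FibDim.fiber_apply_fiberι e u'))
    rw [AssLib.depthZero_iff]
    obtain ⟨p, hp⟩ := associatedPrimes.nonempty ((e.fiber y).presheaf.stalk t) ((e.fiber y).presheaf.stalk t)
    exact hdim p hp.isPrime ▸ hp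

theorem exists_ass_fieldExt_over {F : Y.Modules} (hF : Coh.IsQCoh F) {F' : Y'.Modules}
    (i : F' ≅ (Scheme.Modules.pullback e).obj F) {u : Y'} (hu : e u ∈ AssSch.Ass F) :
    ∃ z ∈ AssSch.Ass F', z ⤳ u ∧ e z = e u := by
  obtain ⟨m, hma, hm⟩ := FibDim.exists_maximal_generization (e.asFiber u)
  have hez : e (e.fiberι (e u) m) = e u := FibDim.fiber_apply_fiberι e m
  refine ⟨_, (mem_ass_fieldExt_iff sq hF i _).2 ⟨hez.symm ▸ hu, fun v hv hev => ?_⟩,
    (hma.map (e.fiberι (e u)).continuous).trans (specializes_of_eq (e.fiberι_asFiber u)), hez⟩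
  obtain ⟨v', rfl⟩ : v ∈ Set.range (e.fiberι (e u)) := by
    rw [Scheme.Hom.range_fiberι]; exact hev.trans hez
  rw [hm v' ((e.fiberι (e u)).isEmbedding.isInducing.specializes_iff.1 hv)]

theorem noEmbedded_fieldExt_iff {F : Y.Modules} (hF : Coh.IsQCoh F) {F' : Y'.Modules}
    (i : F' ≅ (Scheme.Modules.pullback e).obj F) : AssSch.NoEmbedded F ↔ AssSch.NoEmbedded F' := by
  haveI := surjective_of_point h
  haveI := flat_point h
  haveI : Flat e := MorphismProperty.of_isPullback sq.flip ‹Flat h›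
  haveI : Surjective e := MorphismProperty.of_isPullback sq.flip ‹Surjective h›
  constructor
  · intro hne z hz z' hz' hzz'
    obtain ⟨h1, h2⟩ := (mem_ass_fieldExt_iff sq hF i z).1 hz
    obtain ⟨h1', -⟩ := (mem_ass_fieldExt_iff sq hF i z').1 hz'
    exact (h2 z' hzz' (hne _ h1 _ h1' (hzz'.map e.continuous)).symm).symm
  · intro hne y hy y' hy' hyy'
    obtain ⟨a, rfl⟩ := e.surjective y
    obtain ⟨z, hz, -, hza⟩ := exists_ass_fieldExt_over sq hF i hy
    obtain ⟨v, hv, rfl⟩ := Flat.generalizingMap e (show y' ⤳ e z from hza.symm ▸ hyy')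
    obtain ⟨m, hm, hmv, hem⟩ := exists_ass_fieldExt_over sq hF i hy'
    rw [← hza, ← hem, hne z hz m hm (hmv.trans hv)]

theorem assDims_fieldExt_iff {F : Y.Modules} (hF : Coh.IsQCoh F) {F' : Y'.Modules}
    (i : F' ≅ (Scheme.Modules.pullback e).obj F) (D : Set (WithBot ℕ∞)) :
    (∀ z ∈ AssSch.Ass F, topologicalKrullDim ↥(closure ({z} : Set Y)) ∈ D) ↔
      ∀ z ∈ AssSch.Ass F', topologicalKrullDim ↥(closure ({z} : Set Y')) ∈ D := by
  haveI := surjective_of_point h
  haveI : Surjective e := MorphismProperty.of_isPullback sq.flip ‹Surjective h›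
  haveI : LocallyOfFiniteType g' := MorphismProperty.of_isPullback sq ‹_›
  have hd : ∀ (y : Y), topologicalKrullDim ↥(closure ({y} : Set Y)) = ((FibDim.rd g y : ℕ∞) : WithBot ℕ∞) :=
    fun y => by
      rw [← FibDim.dim_closure_inter_fibre g y,
        show g ⁻¹' {g y} = Set.univ from Set.eq_univ_of_forall fun _ => Subsingleton.elim _ _, Set.inter_univ]
  have hd' : ∀ (z : Y'), topologicalKrullDim ↥(closure ({z} : Set Y')) = ((FibDim.rd g' z : ℕ∞) : WithBot ℕ∞) :=
    fun z => by
      rw [← FibDim.dim_closure_inter_fibre g' z,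
        show g' ⁻¹' {g' z} = Set.univ from Set.eq_univ_of_forall fun _ => Subsingleton.elim _ _, Set.inter_univ]
  simp only [hd, hd']
  constructor
  · intro hD z hz
    obtain ⟨h1, h2⟩ := (mem_ass_fieldExt_iff sq hF i z).1 hz
    rw [FibDim.rd_baseChange_eq_of_minimal sq z fun w hw hew _ => h2 w hw hew]
    exact hD _ h1
  · intro hD y hy
    obtain ⟨a, rfl⟩ := e.surjective y
    obtain ⟨z, hz, -, hza⟩ := exists_ass_fieldExt_over sq hF i hy
    obtain ⟨-, h2⟩ := (mem_ass_fieldExt_iff sq hF i z).1 hz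
    rw [← hza, ← FibDim.rd_baseChange_eq_of_minimal sq z fun w hw hew _ => h2 w hw hew]
    exact hD z hz

end FieldExt

theorem dichotomy_of_open_restrict [IsIntegral S] [IsNoetherian S]
    {P : ∀ ⦃Y T : Scheme.{u}⦄, (Y ⟶ T) → Y.Modules → Prop} (hP : ConsProp.IsFieldStableMod P)
    (hflat : ∀ ⦃X S : Scheme.{u}⦄ (f : X ⟶ S) [IsNoetherian S] [LocallyOfFiniteType f] [QuasiCompact f]
      (F : X.Modules), Coh.IsCoh F → CohB1.IsFP F → FlatMod.IsFlatOver f F → IsConstructible (ConsProp.locusMod P f F))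
    (f : X ⟶ S) [LocallyOfFiniteType f] [QuasiCompact f] {F : X.Modules} (hF : Coh.IsCoh F) :
    (interior (ConsProp.locusMod P f F)).Nonempty ∨ (interior (ConsProp.locusMod P f F)ᶜ).Nonempty := by
  haveI : IsLocallyNoetherian X := LocallyOfFiniteType.isLocallyNoetherian f
  obtain ⟨V, hV, hgen⟩ := Groth.Agent.S4698.result f F hF
  haveI : Nonempty (V : Scheme.{u}) := hV.to_subtype
  haveI : IsIntegral (V : Scheme.{u}) := isIntegral_of_isOpenImmersion V.ι
  haveI : CompactSpace (V : Scheme.{u}) := isCompact_iff_compactSpace.mp (NoetherianSpace.isCompact _)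
  haveI : AlgebraicGeometry.IsNoetherian (V : Scheme.{u}) := {}
  let G := (Scheme.Modules.pullback (pullback.fst f V.ι)).obj F
  have hG : Coh.IsCoh G := ZClosLib.isCoh_pullback _ hF
  haveI : IsLocallyNoetherian (pullback f V.ι : Scheme.{u}) :=
    LocallyOfFiniteType.isLocallyNoetherian (pullback.snd f V.ι)
  have hGfl : FlatMod.IsFlatOver (pullback.snd f V.ι) G := fun x' =>
    MorLib.FlatBC.isFlatOverAt_baseChange f _ _ V.ι (IsPullback.of_hasPullback f V.ι) F x' (hgen _ (by
      have h2 : f (pullback.fst f V.ι x') = V.ι (pullback.snd f V.ι x') := by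
        rw [← Scheme.Hom.comp_apply, ← Scheme.Hom.comp_apply, pullback.condition]
      rw [h2]
      exact (pullback.snd f V.ι x').2))
  have hL := locusMod_preimage hP (IsPullback.of_hasPullback f V.ι) (fun _ => ZClosLib.isCoh_pullback _ hF)
    (Iso.refl G)
  have hC := hflat (pullback.snd f V.ι) G hG (isFP_of_isCoh' hG) hGfl
  rw [hL] at hC
  rcases dichotomy_of_isConstructible hC with ⟨v, hv⟩ | ⟨v, hv⟩
  · refine .inl ⟨V.ι v, interior_maximal ?_ (V.ι.isOpenEmbedding.isOpenMap _ isOpen_interior) ⟨v, hv, rfl⟩⟩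
    rintro _ ⟨a, ha, rfl⟩
    exact (interior_subset ha : a ∈ V.ι ⁻¹' ConsProp.locusMod P f F)
  · refine .inr ⟨V.ι v, interior_maximal ?_ (V.ι.isOpenEmbedding.isOpenMap _ isOpen_interior) ⟨v, hv, rfl⟩⟩
    rintro _ ⟨a, ha, rfl⟩
    exact (interior_subset ha : a ∈ (V.ι ⁻¹' ConsProp.locusMod P f F)ᶜ)

/-- EGA IV 9.8.2: no embedded associated points. -/
theorem isConsMod_noEmbedded : ConsProp.IsConsMod.{u} (fun Y _T (_ : Y ⟶ _T) F => AssSch.NoEmbedded F) := by
  have hst : ConsProp.IsFieldStableMod.{u} (fun Y _T (_ : Y ⟶ _T) F => AssSch.NoEmbedded F) :=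
    fun Y Y' T T' g g' e h _ _ _ _ _ _ sq F F' hF i => noEmbedded_fieldExt_iff sq hF.1 i
  refine ⟨hst, fun X S f _ _ _ _ F hF => dichotomy_of_open_restrict hst (fun X S f _ _ _ F hC hFP hfl => ?_) f hF⟩
  haveI : IsLocallyNoetherian X := LocallyOfFiniteType.isLocallyNoetherian f
  haveI : CompactSpace X := QuasiCompact.compactSpace_of_compactSpace f
  haveI : AlgebraicGeometry.IsNoetherian X := {}
  haveI : LocallyOfFinitePresentation f := inferInstance
  refine isConstructible_setOf_subset f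
    (SpecLib.isConstructible_of_isOpen (H1AssDim.isOpen_noEmb f F hFP hfl)) fun s => ?_
  show AssSch.NoEmbedded ((Scheme.Modules.pullback (f.fiberι s)).obj F) ↔ _
  constructor
  · rintro h x rfl
    exact fun z hz _ z' hz' hzz' => (h z hz z' hz' (specializes_iff_mem_closure.2 hzz')).symm
  · intro h z hz z' hz' hsp
    by_contra hne
    have hmem := h (show f.fiberι s z ∈ f ⁻¹' {s} from FibDim.fiber_apply_fiberι f z)
    haveI : IsLocallyNoetherian (f.fiber s) := LocallyOfFiniteType.isLocallyNoetherian (f.fiberToSpecResidueField s)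
    rw [Set.mem_ofPred_eq, H1AssDim.noEmb_iff f F hFP] at hmem
    have hmin := hmem _ specializes_rfl rfl ((H1AssDim.mem_ass_iff f F hFP s z).1 hz)
    exact hne (((H1AssDim.xmin_iff_fibre f F hFP s z).1 hmin).2 z'
      (not_subsingleton_iff_nontrivial.1 (AssLib.mem_support_of_mem_ass hz')) hsp).symm

/-- EGA IV 9.8.4: the dimensions of the associated cycles. -/
theorem isConsMod_assDims (Φ : Finset ℕ) : ConsProp.IsConsMod.{u} (fun Y _T (_ : Y ⟶ _T) F =>
    ∀ z ∈ AssSch.Ass F, topologicalKrullDim ↥(closure ({z} : Set Y)) ∈ (fun n : ℕ => (n : WithBot ℕ∞)) '' (Φ : Set ℕ)) := by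
  have hst : ConsProp.IsFieldStableMod.{u} (fun Y _T (_ : Y ⟶ _T) F =>
      ∀ z ∈ AssSch.Ass F, topologicalKrullDim ↥(closure ({z} : Set Y)) ∈ (fun n : ℕ => (n : WithBot ℕ∞)) '' (Φ : Set ℕ)) :=
    fun Y Y' T T' g g' e h _ _ _ _ _ _ sq F F' hF i => assDims_fieldExt_iff sq hF.1 i _
  refine ⟨hst, fun X S f _ _ _ _ F hF => dichotomy_of_open_restrict hst (fun X S f _ _ _ F hC hFP hfl => ?_) f hF⟩
  haveI : IsLocallyNoetherian X := LocallyOfFiniteType.isLocallyNoetherian f
  haveI : CompactSpace X := QuasiCompact.compactSpace_of_compactSpace f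
  haveI : AlgebraicGeometry.IsNoetherian X := {}
  haveI : LocallyOfFinitePresentation f := inferInstance
  refine isConstructible_setOf_subset f
    (SpecLib.isConstructible_of_isOpen (H1AssDim.isOpen_assDims f F hFP hfl Φ)) fun s => ?_
  constructor
  · rintro h x rfl z hz -
    obtain ⟨n, hn, e⟩ := h z hz
    exact ⟨n, hn, e.symm⟩
  · intro h z hz
    have hmem := h (show f.fiberι s z ∈ f ⁻¹' {s} from FibDim.fiber_apply_fiberι f z)
    rw [Set.mem_ofPred_eq] at hmem
    have key := (H1AssDim.forall_fibre_gen_iff f (f.fiberι s z) _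
      (fun t => H1AssDim.XAss f F t → (FibDim.rd f t : ℕ∞) ∈ ((↑) : ℕ → ℕ∞) '' (Φ : Set ℕ))
      fun w => H1AssDim.assDims_iff f F hFP Φ _ w).1 fun w hc hw => hmem w hw hc
    obtain ⟨n, hn, e⟩ := (H1AssDim.assDims_iff f F hFP Φ s z).2 (key _ specializes_rfl rfl) hz
    exact ⟨n, hn, e.symm⟩

end Groth.Agent.ConsPropLib

namespace Groth.Agent.ConsPropLib

open Topology in
theorem lc_compl' {T : Type*} [TopologicalSpace T] {A : Set T} (hA : IsLocallyConstructible A) :
    IsLocallyConstructible Aᶜ := fun t => by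
  obtain ⟨U, h1, h2, h3⟩ := hA t
  exact ⟨U, h1, h2, h3.compl⟩

end Groth.Agent.ConsPropLib
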