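import Groth.Agent.ConsPropLib.Loci
import Groth.Agent.H1FlatLimit.Noeth
import Groth.Agent.ZClosLib.CohDescent
import Groth.Agent.RGLib.Lim8Zero

/-!
# Loci of constructible properties of a scheme with a module (EGA IV 9.3)
-/

set_option autoImplicit false
set_option linter.style.haveILetI false
set_option backward.isDefEq.respectTransparency false
set_option backward.isDefEq.respectTransparency.types false

open CategoryTheory CategoryTheory.Limits AlgebraicGeometry Topology Opposite Groth.Agent.MorLib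

namespace Groth.Agent.ConsPropLib

universe u

variable {X S : Scheme.{u}}

theorem isConstructible_locusMod [IsNoetherian S] {P : ∀ ⦃Y T : Scheme.{u}⦄, (Y ⟶ T) → Y.Modules → Prop}
    (hP : ConsProp.IsConsMod P) (u : X ⟶ S) [LocallyOfFiniteType u] [QuasiCompact u]
    {F : X.Modules} (hF : Coh.IsCoh F) : IsConstructible (ConsProp.locusMod P u F) :=
  isConstructible_of_dichotomy _ fun T j _ _ _ => by
    rw [← locusMod_preimage hP.1 (IsPullback.of_hasPullback u j) (fun _ => ZClosLib.isCoh_pullback _ hF)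
      (Iso.refl _)]
    exact hP.2 (pullback.snd u j) _ (ZClosLib.isCoh_pullback _ hF)

theorem isIndConstructible_locusMod [IsNoetherian S] {P : ∀ ⦃Y T : Scheme.{u}⦄, (Y ⟶ T) → Y.Modules → Prop}
    (hP : ConsProp.IsIndConsMod P) (u : X ⟶ S) [LocallyOfFiniteType u] [QuasiCompact u]
    {F : X.Modules} (hF : Coh.IsCoh F) : ProCons.IsIndConstructible (ConsProp.locusMod P u F) :=
  isIndConstructible_of_generic _ fun T j _ _ _ hg => by
    have hl := locusMod_preimage hP.1 (IsPullback.of_hasPullback u j) (fun _ => ZClosLib.isCoh_pullback _ hF)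
      (Iso.refl _)
    rw [← hl]
    exact hP.2 (pullback.snd u j) _ (ZClosLib.isCoh_pullback _ hF) (hl.ge hg)

/-- A scheme with a module, of finite presentation, restricted to an affine open of the base. -/
theorem exists_affine_restrict_mod {P : ∀ ⦃Y T : Scheme.{u}⦄, (Y ⟶ T) → Y.Modules → Prop}
    (hP : ConsProp.IsFieldStableMod P) (u : X ⟶ S)
    [LocallyOfFinitePresentation u] [QuasiCompact u] [QuasiSeparated u]
    {F : X.Modules} (hFq : Coh.IsQCoh F) (hF : CohB1.IsFP F) {V : S.Opens} (hV : IsAffineOpen V) :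
    ∃ (S₀ X₀ : Scheme.{u}) (π : (V : Scheme.{u}) ⟶ S₀) (u₀ : X₀ ⟶ S₀) (G : X₀.Modules),
      IsNoetherian S₀ ∧ IsAffineHom π ∧ LocallyOfFiniteType u₀ ∧ QuasiCompact u₀ ∧ Coh.IsCoh G ∧
      (V.ι ⁻¹' ConsProp.locusMod P u F : Set (V : Scheme.{u})) = π ⁻¹' ConsProp.locusMod P u₀ G := by
  haveI : IsAffine (V : Scheme.{u}) := hV
  let A := Γ((V : Scheme.{u}), ⊤)
  let f : pullback u V.ι ⟶ Spec (CommRingCat.of A) := pullback.snd u V.ι ≫ (V : Scheme.{u}).isoSpec.hom
  let FV := (Scheme.Modules.pullback (pullback.fst u V.ι)).obj F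
  have hFc : Coh.IsCoh F := ⟨hFq, QCoh.isFT_of_isFP hF⟩
  haveI : Coh.IsQCoh FV := QCoh.isQCoh_pullback _ hFq
  obtain ⟨s, X₁, f₁, g₁, G, _, _, _, sq, hG, hGft, -, ⟨i⟩⟩ :=
    H1FlatLimit.exists_noetherian_descent f FV (RGLib.Lim8.isFP_pullback _ hFq hF)
  let π₀ := (NoethApprox.cone (CommRingCat.of A)).π.app (op s)
  have sq' : IsPullback g₁ (pullback.snd u V.ι) f₁ ((V : Scheme.{u}).isoSpec.hom ≫ π₀) :=
    sq.of_iso (Iso.refl _) (Iso.refl _) (V : Scheme.{u}).isoSpec.symm (Iso.refl _) (by simp) (by simp [f])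
      (by simp) (by simp [π₀])
  refine ⟨_, X₁, (V : Scheme.{u}).isoSpec.hom ≫ π₀, f₁, G,
    NoethApprox.isNoetherian_obj (CommRingCat.of A) (op s), isAffineHom_of_isAffine _, inferInstance, ‹_›,
    ⟨hG, hGft⟩, ?_⟩
  rw [← locusMod_preimage hP (IsPullback.of_hasPullback u V.ι) (fun _ => ZClosLib.isCoh_pullback _ hFc)
      (Iso.refl _),
    ← locusMod_preimage hP sq' (fun _ => ZClosLib.isCoh_pullback _ ⟨hG, hGft⟩) i.symm]

theorem isLocallyConstructible_locusMod {P : ∀ ⦃Y T : Scheme.{u}⦄, (Y ⟶ T) → Y.Modules → Prop}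
    (hP : ConsProp.IsConsMod P) (u : X ⟶ S)
    [LocallyOfFinitePresentation u] [QuasiCompact u] [QuasiSeparated u]
    {F : X.Modules} (hFq : Coh.IsQCoh F) (hF : CohB1.IsFP F) :
    IsLocallyConstructible (ConsProp.locusMod P u F) :=
  lc_of_affine fun V hV => by
    haveI : IsAffine (V : Scheme.{u}) := hV
    obtain ⟨S₀, X₀, π, u₀, G, _, _, _, _, hG, e⟩ := exists_affine_restrict_mod hP.1 u hFq hF hV
    rw [e]
    exact MorLib.LimCons.isConstructible_preimage π (isConstructible_locusMod hP u₀ hG)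

theorem isIndConstructible_locusMod' {P : ∀ ⦃Y T : Scheme.{u}⦄, (Y ⟶ T) → Y.Modules → Prop}
    (hP : ConsProp.IsIndConsMod P) (u : X ⟶ S)
    [LocallyOfFinitePresentation u] [QuasiCompact u] [QuasiSeparated u]
    {F : X.Modules} (hFq : Coh.IsQCoh F) (hF : CohB1.IsFP F) :
    ProCons.IsIndConstructible (ConsProp.locusMod P u F) :=
  ind_of_affine fun V hV => by
    obtain ⟨S₀, X₀, π, u₀, G, _, _, _, _, hG, e⟩ := exists_affine_restrict_mod hP.1 u hFq hF hV
    rw [e]
    exact MorLib.LimPro.isIndConstructible_preimage (isIndConstructible_locusMod hP u₀ hG) π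

end Groth.Agent.ConsPropLib
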