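import Groth.Agent.ConsPropLib.FibreAss
import Groth.Agent.ConsPropLib.Fibre
import Groth.Agent.Codepth5.Scheme
import Groth.Prelude.Def_MoreMor
import Mathlib

/-!
# Relatively associated points and associated points of the fibres; base change (EGA IV 3.3.1, 12.1)
-/

set_option autoImplicit false
set_option linter.style.haveILetI false
set_option backward.isDefEq.respectTransparency false
set_option backward.isDefEq.respectTransparency.types false

open CategoryTheory CategoryTheory.Limits AlgebraicGeometry IsLocalRing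

namespace Groth.Agent.ConsPropLib

universe u

theorem isAssociatedPrime_maximal_semilinear_iff {A B : Type u} [CommRing A] [IsLocalRing A] [CommRing B] [IsLocalRing B]
    (σ : A →+* B) (hσ : Function.Surjective σ) {M N : Type u} [AddCommGroup M] [Module A M] [AddCommGroup N] [Module B N]
    (e : M ≃+ N) (he : ∀ (r : A) (m : M), e (r • m) = σ r • e m) :
    IsAssociatedPrime (maximalIdeal A) M ↔ IsAssociatedPrime (maximalIdeal B) N := by
  haveI : IsLocalHom σ := IsLocalHom.of_surjective σ hσ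
  have hcomap : maximalIdeal A = (maximalIdeal B).comap σ :=
    Ideal.ext fun a => ⟨fun ha hu => ha (isUnit_of_map_unit σ a hu), fun ha hu => ha (hu.map σ)⟩
  have hcolon : ∀ m : M, ((⊥ : Submodule A M).colon {m}).radical = (((⊥ : Submodule B N).colon {e m}).radical).comap σ :=
    fun m => by
      rw [Ideal.comap_radical]
      refine congrArg Ideal.radical (Ideal.ext fun a => ?_)
      rw [Submodule.mem_colon_singleton, Ideal.mem_comap, Submodule.mem_colon_singleton, Submodule.mem_bot,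
        Submodule.mem_bot, ← he, e.map_eq_zero_iff]
  constructor
  · rintro ⟨hP, m, hm⟩
    refine ⟨(maximalIdeal.isMaximal B).isPrime, e m, Ideal.comap_injective_of_surjective σ hσ ?_⟩
    rw [← hcomap, hm, hcolon]
  · rintro ⟨hP, n, hn⟩
    refine ⟨(maximalIdeal.isMaximal A).isPrime, e.symm n, ?_⟩
    rw [hcolon, e.apply_symm_apply, hcomap, hn]

theorem mem_relAss_iff_fibre {X S : Scheme.{u}} (f : X ⟶ S) (F : X.Modules) (s : S) (w : ↥(f.fiber s)) :
    f.fiberι s w ∈ MoreMor.relAss f F ↔ w ∈ AssSch.Ass ((Scheme.Modules.pullback (f.fiberι s)).obj F) := by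
  let ι := f.fiberι s
  let O := X.presheaf.stalk (ι w)
  let σ : O →+* (f.fiber s).presheaf.stalk w := (ι.stalkMap w).hom
  letI : Algebra O ((f.fiber s).presheaf.stalk w) := σ.toAlgebra
  have hσ : Function.Surjective σ := ι.stalkMap_surjective w
  let J : Ideal O := Codepth5.fibIdeal f (ι w)
  have hJ : RingHom.ker σ = J := FlatDvr.ker_stalkMap_fiberι f w
  let e₀ : ((Scheme.Modules.pullback ι).obj F).presheaf.stalk w ≃ₗ[(f.fiber s).presheaf.stalk w]
      TensorProduct O ((f.fiber s).presheaf.stalk w) (F.presheaf.stalk (ι w)) :=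
    ((KFlatLib.stalkPullbackIso ι w).app F).toLinearEquiv
  let e₁ : (O ⧸ J) ≃ₗ[O] (f.fiber s).presheaf.stalk w :=
    (Submodule.quotEquivOfEq J (LinearMap.ker (Algebra.linearMap O ((f.fiber s).presheaf.stalk w))) hJ.symm) ≪≫ₗ
      (Algebra.linearMap O ((f.fiber s).presheaf.stalk w)).quotKerEquivOfSurjective hσ
  let e₂ := (TensorProduct.quotTensorEquivQuotSMul (F.presheaf.stalk (ι w)) J).symm ≪≫ₗ
    TensorProduct.congr e₁ (LinearEquiv.refl O (F.presheaf.stalk (ι w)))
  rw [AssLib.mem_ass_def]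
  refine isAssociatedPrime_maximal_semilinear_iff σ hσ (e₂.toAddEquiv.trans e₀.symm.toAddEquiv) fun r x => ?_
  show e₀.symm (e₂ (r • x)) = σ r • e₀.symm (e₂ x)
  rw [e₂.map_smul, show r • e₂ x = σ r • e₂ x from (algebraMap_smul ((f.fiber s).presheaf.stalk w) r (e₂ x)).symm,
    e₀.symm.map_smul]

theorem relAss_fibre_subset_iff {X S : Scheme.{u}} (f : X ⟶ S) (F : X.Modules) (s : S) (U : Set X) :
    ({x | x ∈ MoreMor.relAss f F ∧ f x = s} ⊆ U) ↔
      AssSch.Ass ((Scheme.Modules.pullback (f.fiberι s)).obj F) ⊆ f.fiberι s ⁻¹' U := by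
  constructor
  · intro h w hw
    exact h ⟨(mem_relAss_iff_fibre f F s w).2 hw, FibDim.fiber_apply_fiberι f w⟩
  · rintro h x ⟨hx, rfl⟩
    have := h ((mem_relAss_iff_fibre f F (f x) (f.asFiber x)).1 (by rwa [f.fiberι_asFiber]))
    rwa [Set.mem_preimage, f.fiberι_asFiber] at this

theorem relAss_fibre_subset_iff_baseChange {X S X' S' : Scheme.{u}} (f : X ⟶ S) [LocallyOfFiniteType f]
    {F : X.Modules} (hF : Coh.IsQCoh F) (U : Set X) (g : S' ⟶ S) (f' : X' ⟶ S') (g' : X' ⟶ X)
    (hc : IsPullback g' f' f g) (s' : S') :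
    {x : X | x ∈ MoreMor.relAss f F ∧ f x = g s'} ⊆ U ↔
      {x' : X' | x' ∈ MoreMor.relAss f' ((Scheme.Modules.pullback g').obj F) ∧ f' x' = s'} ⊆ g' ⁻¹' U := by
  rw [relAss_fibre_subset_iff, relAss_fibre_subset_iff]
  obtain ⟨e, he, heι⟩ := exists_fibre_pullback hc s'
  let i : (Scheme.Modules.pullback (f'.fiberι s')).obj ((Scheme.Modules.pullback g').obj F) ≅
      (Scheme.Modules.pullback e).obj ((Scheme.Modules.pullback (f.fiberι (g s'))).obj F) :=
    (Scheme.Modules.pullbackComp _ _).app F ≪≫ (Scheme.Modules.pullbackCongr heι.symm).app F ≪≫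
      ((Scheme.Modules.pullbackComp _ _).app F).symm
  have hq := QCoh.isQCoh_pullback (f.fiberι (g s')) hF
  have hpt : ∀ u, g' (f'.fiberι s' u) = f.fiberι (g s') (e u) := fun u => by
    rw [← Scheme.Hom.comp_apply, ← heι, Scheme.Hom.comp_apply]
  constructor
  · intro h u hu
    show g' (f'.fiberι s' u) ∈ U
    rw [hpt]
    exact h ((mem_ass_fieldExt_iff he hq i u).1 hu).1
  · intro h y hy
    haveI := surjective_of_point (Spec.map (g.residueFieldMap s'))
    haveI : Surjective e := MorphismProperty.of_isPullback he.flip ‹_›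
    obtain ⟨u, rfl⟩ := e.surjective y
    obtain ⟨z, hz, -, hze⟩ := exists_ass_fieldExt_over he hq i hy
    have := h hz
    rw [Set.mem_preimage, Set.mem_preimage, hpt, hze] at this
    exact this

theorem mem_ass_fibre_baseChange_iff {X S X' S' : Scheme.{u}} (f : X ⟶ S) [LocallyOfFiniteType f]
    {F : X.Modules} (hF : Coh.IsQCoh F) (g : S' ⟶ S) (f' : X' ⟶ S') (g' : X' ⟶ X)
    (hc : IsPullback g' f' f g) (x' : X') :
    f'.asFiber x' ∈ AssSch.Ass ((Scheme.Modules.pullback (f'.fiberι (f' x'))).obj ((Scheme.Modules.pullback g').obj F)) ↔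
      f.asFiber (g' x') ∈ AssSch.Ass ((Scheme.Modules.pullback (f.fiberι (f (g' x')))).obj F) ∧
        ∀ x'' : X', f' x'' = f' x' → g' x'' = g' x' → x'' ⤳ x' → x'' = x' := by
  rw [← mem_relAss_iff_fibre f F, f.fiberι_asFiber]
  obtain ⟨e, he, heι⟩ := exists_fibre_pullback hc (f' x')
  let i : (Scheme.Modules.pullback (f'.fiberι (f' x'))).obj ((Scheme.Modules.pullback g').obj F) ≅
      (Scheme.Modules.pullback e).obj ((Scheme.Modules.pullback (f.fiberι (g (f' x')))).obj F) :=
    (Scheme.Modules.pullbackComp _ _).app F ≪≫ (Scheme.Modules.pullbackCongr heι.symm).app F ≪≫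
      ((Scheme.Modules.pullbackComp _ _).app F).symm
  have hq := QCoh.isQCoh_pullback (f.fiberι (g (f' x'))) hF
  have hpt : ∀ u, g' (f'.fiberι (f' x') u) = f.fiberι (g (f' x')) (e u) := fun u => by
    rw [← Scheme.Hom.comp_apply, ← heι, Scheme.Hom.comp_apply]
  rw [mem_ass_fieldExt_iff he hq i, ← mem_relAss_iff_fibre f F, ← hpt, f'.fiberι_asFiber]
  refine and_congr_right fun _ => ⟨fun h x'' hfx hgx hsp => ?_, fun h u hsp heu => ?_⟩
  · obtain ⟨u, rfl⟩ : x'' ∈ Set.range (f'.fiberι (f' x')) := by rw [Scheme.Hom.range_fiberι]; exact hfx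
    rw [h u ((f'.fiberι (f' x')).isEmbedding.isInducing.specializes_iff.1 (by rwa [f'.fiberι_asFiber]))
      ((f.fiberι (g (f' x'))).isEmbedding.injective (by rw [← hpt, ← hpt, hgx, f'.fiberι_asFiber])),
      f'.fiberι_asFiber]
  · refine (f'.fiberι (f' x')).isEmbedding.injective ?_
    rw [f'.fiberι_asFiber]
    refine h _ (FibDim.fiber_apply_fiberι f' u) ?_ ?_
    · rw [hpt, heu, ← hpt, f'.fiberι_asFiber]
    · simpa only [f'.fiberι_asFiber] using hsp.map (f'.fiberι (f' x')).continuous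

end Groth.Agent.ConsPropLib
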