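import Groth.Agent.ConsPropLib.FibreFlatLocus
import Groth.Agent.ConsPropLib.Loci
import Groth.Agent.ConsPropLib.Noetherian
import Groth.Agent.H1FlatLimit.Noeth
import Groth.Agent.RGLib.Lim8Zero

/-!
# Constructibility of the locus of fibrewise flatness of a module (EGA IV 11.2.8)
-/

set_option backward.isDefEq.respectTransparency false
set_option backward.isDefEq.respectTransparency.types false
set_option linter.style.haveILetI false
set_option autoImplicit false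

universe u

open CategoryTheory CategoryTheory.Limits AlgebraicGeometry TopologicalSpace Opposite Topology
  Groth.Agent.MorLib

namespace Groth.Agent.ConsPropLib

variable {X Y S : Scheme.{u}}

theorem isPullback_id_of_mono' {A B C : Scheme.{u}} (z' : A ⟶ B) (ι : B ⟶ C) [Mono ι] :
    IsPullback (𝟙 A) z' (z' ≫ ι) ι := by
  refine ⟨⟨by simp⟩, ⟨PullbackCone.IsLimit.mk _ (fun s => s.fst) (fun s => Category.comp_id _)
    (fun s => ?_) (fun s m h1 _ => (Category.comp_id _).symm.trans h1)⟩⟩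
  rw [← cancel_mono ι, Category.assoc]
  exact s.condition

theorem fibreFlatAt_of_isFlatOverAt {f : X ⟶ Y} {h : Y ⟶ S} {F : X.Modules} {x : X}
    (hflat : FlatMod.IsFlatOverAt f F x) : FibreFlatAt f h F x := by
  intro s w hw
  subst hw
  exact MorLib.FlatBC.isFlatOverAt_baseChange f _ _ (h.fiberι s) (isPullback_fiberMap f h s) F w hflat

/-- The fibrewise criterion at a point, over a locally noetherian base. -/
theorem isFlatOverAt_of_fibreFlatAt [IsLocallyNoetherian S] (f : X ⟶ Y) (h : Y ⟶ S)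
    [LocallyOfFiniteType h] [LocallyOfFiniteType (f ≫ h)]
    {F : X.Modules} [Coh.IsQCoh F] (hF : CohB1.IsFP F) (x : X)
    (hS : FlatMod.IsFlatOverAt (f ≫ h) F x) (hx : FibreFlatAt f h F x) : FlatMod.IsFlatOverAt f F x := by
  haveI : IsLocallyNoetherian Y := LocallyOfFiniteType.isLocallyNoetherian h
  haveI : LocallyOfFiniteType f := locallyOfFiniteType_of_comp f h
  haveI : IsLocallyNoetherian X := LocallyOfFiniteType.isLocallyNoetherian f
  haveI : LocallyOfFinitePresentation f := inferInstance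
  obtain ⟨w, hw⟩ := exists_fibre_point f h x
  haveI : LocallyOfFinitePresentation (MoreMor.fiberMap f h (h (f x))) :=
    MorphismProperty.of_isPullback (isPullback_fiberMap f h (h (f x))) ‹LocallyOfFinitePresentation f›
  haveI : Coh.IsQCoh ((Scheme.Modules.pullback ((f ≫ h).fiberι (h (f x)))).obj F) :=
    QCoh.isQCoh_pullback _ ‹_›
  have hO := Groth.Agent.S4863.result (MoreMor.fiberMap f h (h (f x))) _
    (RGLib.Lim8.isFP_pullback ((f ≫ h).fiberι (h (f x))) ‹Coh.IsQCoh F› hF)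
  obtain ⟨U', hU', heq⟩ := ((f ≫ h).fiberι (h (f x))).isEmbedding.isInducing.isOpen_iff.1 hO
  have hwU : x ∈ U' := by
    have h1 : w ∈ ((f ≫ h).fiberι (h (f x))) ⁻¹' U' := by rw [heq]; exact hx _ w hw
    rw [Set.mem_preimage, hw] at h1
    exact h1
  let U : X.Opens := ⟨U', hU'⟩
  let F' := (Scheme.Modules.pullback U.ι).obj F
  haveI : Coh.IsQCoh F' := QCoh.isQCoh_pullback _ ‹_›
  have hF' : CohB1.IsFP F' := RGLib.Lim8.isFP_pullback _ ‹_› hF
  let x₁ : (U : Scheme.{u}) := ⟨x, hwU⟩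
  haveI : LocallyOfFiniteType ((U.ι ≫ f) ≫ h) := by rw [Category.assoc]; infer_instance
  haveI : IsLocallyNoetherian (U : Scheme.{u}) := inferInstance
  have hfib : FlatMod.IsFlatOver (MoreMor.fiberMap (U.ι ≫ f) h (h ((U.ι ≫ f) x₁)))
      ((Scheme.Modules.pullback (((U.ι ≫ f) ≫ h).fiberι (h ((U.ι ≫ f) x₁)))).obj F') := fun v => by
    let z : (U : Scheme.{u}) := ((U.ι ≫ f) ≫ h).fiberι (h ((U.ι ≫ f) x₁)) v
    have hz : FibreFlatAt f h F (U.ι z) := by
      intro s w' hw'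
      have hs : s = h (f x) := by
        have h1 : (f ≫ h).fiberι s w' ∈ Set.range ((f ≫ h).fiberι s) := ⟨w', rfl⟩
        rw [Scheme.Hom.range_fiberι, hw'] at h1
        have h2 : z ∈ Set.range (((U.ι ≫ f) ≫ h).fiberι (h ((U.ι ≫ f) x₁))) := ⟨v, rfl⟩
        rw [Scheme.Hom.range_fiberι] at h2
        exact h1.symm.trans h2
      subst hs
      have h3 : w' ∈ ((f ≫ h).fiberι (h (f x))) ⁻¹' U' := by
        rw [Set.mem_preimage, hw']
        exact z.2
      rw [heq] at h3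
      exact h3
    exact ((fibreFlatAt_restrictSource f h U.ι ‹Coh.IsQCoh F› (Iso.refl F') z).2 hz) _ v rfl
  by_cases hnt : Nontrivial ↑(F'.presheaf.stalk x₁)
  · have hSU : FlatMod.IsFlatOverAt ((U.ι ≫ f) ≫ h) F' x₁ := by
      rw [Category.assoc]
      exact (Groth.Agent.S9350.result U.ι (f ≫ h) F ‹_› x₁ (Flat.stalkMap _ _)).1 hS
    refine (Groth.Agent.S9350.result U.ι f F ‹_› x₁ (Flat.stalkMap _ _)).2 ?_
    exact ((Groth.Agent.S4847.result (U.ι ≫ f) h F' ⟨‹_›, QCoh.isFT_of_isFP hF'⟩ x₁ hnt).1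
      ⟨hSU, flat_fibreStalk_of_isFlatOver_fibre (U.ι ≫ f) h ‹_› x₁ hfib⟩).2
  · refine (Groth.Agent.S9350.result U.ι f F ‹_› x₁ (Flat.stalkMap _ _)).2 ?_
    haveI : Subsingleton ↑(F'.presheaf.stalk x₁) := not_nontrivial_iff_subsingleton.1 hnt
    letI := FlatMod.moduleStalkOver (U.ι ≫ f) F' x₁
    exact (inferInstance : Module.Flat ↑(Y.presheaf.stalk ((U.ι ≫ f) x₁)) ↑(F'.presheaf.stalk x₁))

theorem isConstructible_fibreFlat [IsNoetherian S] (f : X ⟶ Y) (h : Y ⟶ S)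
    [LocallyOfFiniteType h] [QuasiCompact h] [LocallyOfFiniteType (f ≫ h)] [QuasiCompact (f ≫ h)]
    {F : X.Modules} [Coh.IsQCoh F] (hF : CohB1.IsFP F) : IsConstructible {x : X | FibreFlatAt f h F x} := by
  haveI : IsLocallyNoetherian Y := LocallyOfFiniteType.isLocallyNoetherian h
  haveI : IsLocallyNoetherian X := LocallyOfFiniteType.isLocallyNoetherian (f ≫ h)
  haveI : CompactSpace X := QuasiCompact.compactSpace_of_compactSpace (f ≫ h)
  haveI : AlgebraicGeometry.IsNoetherian X := {}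
  refine isConstructible_of_dichotomy _ fun T j _ _ _ => ?_
  obtain ⟨S₁, j₁, _, _, hr, hgen⟩ := exists_integral_closure ((f ≫ h) (j (genericPoint T)))
  haveI : IsLocallyNoetherian S₁ := LocallyOfFiniteType.isLocallyNoetherian j₁
  haveI : CompactSpace S₁ := QuasiCompact.compactSpace_of_compactSpace j₁
  let h₁ := pullback.snd h j₁
  let f₁ := pullback.snd f (pullback.fst h j₁)
  let eX := pullback.fst f (pullback.fst h j₁)
  have sqY : IsPullback (pullback.fst h j₁) h₁ h j₁ := IsPullback.of_hasPullback _ _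
  have sqX : IsPullback eX f₁ f (pullback.fst h j₁) := IsPullback.of_hasPullback _ _
  have sqZ : IsPullback eX (f₁ ≫ h₁) (f ≫ h) j₁ := sqX.paste_vert sqY
  haveI : LocallyOfFiniteType (f₁ ≫ h₁) := MorphismProperty.of_isPullback sqZ ‹_›
  haveI : QuasiCompact (f₁ ≫ h₁) := MorphismProperty.of_isPullback sqZ ‹_›
  haveI : IsClosedImmersion eX := MorphismProperty.of_isPullback sqZ.flip ‹IsClosedImmersion j₁›
  haveI : LocallyOfFiniteType f := locallyOfFiniteType_of_comp f h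
  haveI : LocallyOfFiniteType f₁ := MorphismProperty.of_isPullback sqX ‹_›
  haveI : IsLocallyNoetherian (pullback h j₁) := LocallyOfFiniteType.isLocallyNoetherian h₁
  haveI : LocallyOfFinitePresentation f₁ := inferInstance
  let F₁ := (Scheme.Modules.pullback eX).obj F
  haveI : Coh.IsQCoh F₁ := QCoh.isQCoh_pullback _ ‹_›
  have hF₁ : CohB1.IsFP F₁ := RGLib.Lim8.isFP_pullback _ ‹_› hF
  obtain ⟨V, hV, hgenflat⟩ := Groth.Agent.S4698.result (f₁ ≫ h₁) F₁ ⟨‹_›, QCoh.isFT_of_isFP hF₁⟩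
  have hcompat : ∀ z, (FibreFlatAt f h F (eX z) ↔ FibreFlatAt f₁ h₁ F₁ z) := fun z =>
    (fibreFlatAt_baseChange sqY sqX ‹Coh.IsQCoh F› (Iso.refl F₁) z).symm
  have hkey : ∀ z, (f₁ ≫ h₁) z ∈ V → (FibreFlatAt f h F (eX z) ↔ FlatMod.IsFlatOverAt f₁ F₁ z) := fun z hz =>
    (hcompat z).trans ⟨isFlatOverAt_of_fibreFlatAt f₁ h₁ hF₁ z (hgenflat z hz), fibreFlatAt_of_isFlatOverAt⟩
  have hrange : Set.range eX = (f ≫ h) ⁻¹' Set.range j₁ := range_eX sqZ
  have hjr : ∀ t, j t ∈ Set.range eX := fun t => by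
    rw [hrange, Set.mem_preimage, hr]
    exact specializes_iff_mem_closure.1
      ((((genericPoint_spec T).specializes (Set.mem_univ t)).map j.continuous).map (f ≫ h).continuous)
  have hopen : ∀ A : Set (pullback f (pullback.fst h j₁) : Scheme.{u}), IsOpen A →
      IsOpen (j ⁻¹' (eX '' A)) := fun A hA => by
    obtain ⟨A', hA', rfl⟩ := eX.isClosedEmbedding.isInducing.isOpen_iff.1 hA
    rw [Set.image_preimage_eq_inter_range, Set.preimage_inter,
      show j ⁻¹' Set.range eX = Set.univ from Set.eq_univ_of_forall hjr, Set.inter_univ]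
    exact hA'.preimage j.continuous
  obtain ⟨z₁, hz₁⟩ := hjr (genericPoint T)
  have hz₁V : (f₁ ≫ h₁) z₁ ∈ V := by
    have e : (f₁ ≫ h₁) z₁ = genericPoint S₁ := j₁.isClosedEmbedding.injective (by
      rw [hgen, ← hz₁, ← Scheme.Hom.comp_apply, ← Scheme.Hom.comp_apply, sqZ.w])
    rw [e]
    exact exists_nhd_generic V.2 hV
  let O : Set (pullback f (pullback.fst h j₁) : Scheme.{u}) := {z | FlatMod.IsFlatOverAt f₁ F₁ z}
  let A : Set (pullback f (pullback.fst h j₁) : Scheme.{u}) := (f₁ ≫ h₁) ⁻¹' (V : Set S₁)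
  have hO : IsOpen O := Groth.Agent.S4863.result f₁ F₁ hF₁
  have hA : IsOpen A := V.2.preimage (f₁ ≫ h₁).continuous
  by_cases hc : z₁ ∈ O
  · refine .inl ⟨genericPoint T, interior_maximal ?_ (hopen _ (hO.inter hA)) ⟨z₁, ⟨hc, hz₁V⟩, hz₁⟩⟩
    rintro t ⟨z, ⟨hzO, hzA⟩, hzt⟩
    show FibreFlatAt f h F (j t)
    rw [← hzt]
    exact (hkey z hzA).2 hzO
  · refine .inr ⟨genericPoint T, interior_maximal ?_ (hopen _ hA) ⟨z₁, hz₁V, hz₁⟩⟩
    rintro t ⟨z, hzA, hzt⟩ (ht : FibreFlatAt f h F (j t))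
    rw [← hzt] at ht
    obtain ⟨z', ⟨hz'O, -⟩, hz'⟩ := exists_nhd_generic (hopen _ (hO.inter hA))
      ⟨t, z, ⟨(hkey z hzA).1 ht, hzA⟩, hzt⟩
    exact hc (eX.isClosedEmbedding.injective (hz'.trans hz₁.symm) ▸ hz'O)

/-- A pair of morphisms and a module of finite presentation over an affine base come from a noetherian base. -/
theorem exists_model_mor_mod {A : Type u} [CommRing A] (f : X ⟶ Y) (h : Y ⟶ Spec (CommRingCat.of A))
    [LocallyOfFinitePresentation h] [QuasiCompact h] [QuasiSeparated h]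
    [LocallyOfFinitePresentation (f ≫ h)] [QuasiCompact (f ≫ h)] [QuasiSeparated (f ≫ h)]
    (F : X.Modules) [Coh.IsQCoh F] (hF : CohB1.IsFP F) :
    ∃ (S₀ X₀ Y₀ : Scheme.{u}) (π : Spec (CommRingCat.of A) ⟶ S₀) (f₀ : X₀ ⟶ Y₀) (h₀ : Y₀ ⟶ S₀) (qX : X ⟶ X₀)
      (qY : Y ⟶ Y₀) (G : X₀.Modules), IsNoetherian S₀ ∧ LocallyOfFiniteType h₀ ∧ QuasiCompact h₀ ∧
      LocallyOfFiniteType (f₀ ≫ h₀) ∧ QuasiCompact (f₀ ≫ h₀) ∧
      IsPullback qY h h₀ π ∧ IsPullback qX f f₀ qY ∧ Coh.IsQCoh G ∧ CohB1.IsFP G ∧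
      Nonempty (F ≅ (Scheme.Modules.pullback qX).obj G) := by
  let D := NoethApprox.diagram (CommRingCat.of A)
  let c : Cone D := NoethApprox.cone (CommRingCat.of A)
  have hc : IsLimit c := NoethApprox.isLimit (CommRingCat.of A)
  haveI : ∀ {i j} (φ : i ⟶ j), IsAffineHom (D.map φ) := fun φ => NoethApprox.isAffineHom_map _ φ
  haveI : ∀ i j (φ : i ⟶ j), IsAffineHom (D.map φ) := fun i j φ => NoethApprox.isAffineHom_map _ φ
  haveI : ∀ i, IsAffine (D.obj i) := fun i => NoethApprox.isAffine_obj _ i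
  obtain ⟨s, X₁, u₁, g₁, G, h1, h2, h3, sq₁, hG, -, hGfp, ⟨iG⟩⟩ :=
    H1FlatLimit.exists_noetherian_descent (f ≫ h) F hF
  let hc' : Y ⟶ c.pt := h
  haveI : LocallyOfFinitePresentation hc' := ‹LocallyOfFinitePresentation h›
  haveI : QuasiCompact hc' := ‹QuasiCompact h›
  haveI : QuasiSeparated hc' := ‹QuasiSeparated h›
  obtain ⟨j, Y₁, v₁, w₁, hY₀⟩ := hasModel hc hc'
  have hX₀ : IsModel (D := D) (c := c) (f ≫ hc') (op s) u₁ g₁ := ⟨h1, h2, h3, sq₁⟩
  obtain ⟨k, φ, ψ, -⟩ := IsCofilteredOrEmpty.cone_objs (op s) j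
  have hX := hX₀.pushed φ
  have hY := hY₀.pushed ψ
  haveI := hX.lfp; haveI := hY.lfp
  haveI := hX.compactSpace; haveI := hY.compactSpace
  haveI := hX.quasiSeparatedSpace; haveI := hY.quasiSeparatedSpace
  obtain ⟨l, χ, fl, sX, sY, hfl, hA1, hA2, hB1, hB2, hs⟩ :=
    Groth.Agent.S9218.result D c hc k _ _ _ _ hX.sq _ _ hY.sq f rfl
  have mX := hX.pushed χ
  have mY := hY.pushed χ
  have eX : sX = hX.push χ := pullback.hom_ext (hA1.trans (hX.push_fst χ).symm) (hA2.trans (hX.push_snd χ).symm)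
  have eY : sY = hY.push χ := pullback.hom_ext (hB1.trans (hY.push_fst χ).symm) (hB2.trans (hY.push_snd χ).symm)
  subst eX eY
  haveI := mX.lfp; haveI := mY.lfp
  have sqf : IsPullback (hX.push χ) f fl (hY.push χ) := by
    refine IsPullback.of_bot ?_ hs mY.sq
    rw [hfl]
    exact mX.sq
  let q := pullback.fst (pullback.snd u₁ (D.map φ)) (D.map χ) ≫ pullback.fst u₁ (D.map φ)
  have hq : hX.push χ ≫ q = g₁ := by
    simp only [q, ← Category.assoc, IsModel.push_fst]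
  refine ⟨D.obj l, _, _, c.π.app l, fl, _, hX.push χ, hY.push χ, (Scheme.Modules.pullback q).obj G,
    NoethApprox.isNoetherian_obj _ l, inferInstance, mY.qc, ?_, ?_, mY.sq, sqf, QCoh.isQCoh_pullback _ hG,
    RGLib.Lim8.isFP_pullback _ hG hGfp,
    ⟨iG.symm ≪≫ eqToIso (by rw [hq]) ≪≫ ((Scheme.Modules.pullbackComp (hX.push χ) q).app G).symm⟩⟩
  · rw [hfl]; infer_instance
  · rw [hfl]; exact mX.qc

theorem isLocallyConstructible_fibreFlat (f : X ⟶ Y) (h : Y ⟶ S)
    [LocallyOfFinitePresentation h] [LocallyOfFinitePresentation (f ≫ h)]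
    (F : X.Modules) [Coh.IsQCoh F] (hF : CohB1.IsFP F) :
    IsLocallyConstructible {x : X | FibreFlatAt f h F x} := by
  intro x
  obtain ⟨V, hV, hxV, -⟩ := exists_isAffineOpen_mem_and_subset (U := (⊤ : S.Opens)) (x := h (f x)) trivial
  obtain ⟨W, hW, hxW, hWV⟩ := exists_isAffineOpen_mem_and_subset (U := h ⁻¹ᵁ V) (x := f x) hxV
  obtain ⟨U, hU, hxU, hUW⟩ := exists_isAffineOpen_mem_and_subset (U := f ⁻¹ᵁ W) (x := x) hxW
  refine ⟨U, U.2.mem_nhds hxU, U.2, ?_⟩
  show IsConstructible (U.ι ⁻¹' {x : X | FibreFlatAt f h F x} : Set (U : Scheme.{u}))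
  haveI : IsAffine (V : Scheme.{u}) := hV
  haveI : IsAffine (W : Scheme.{u}) := hW
  haveI : IsAffine (U : Scheme.{u}) := hU
  let fU : (U : Scheme.{u}) ⟶ W := f.resLE W U hUW
  let hW' : (W : Scheme.{u}) ⟶ V := h.resLE V W hWV
  let hS : (W : Scheme.{u}) ⟶ Spec (CommRingCat.of Γ((V : Scheme.{u}), ⊤)) := hW' ≫ (V : Scheme.{u}).isoSpec.hom
  let bS : Spec (CommRingCat.of Γ((V : Scheme.{u}), ⊤)) ⟶ S := (V : Scheme.{u}).isoSpec.inv ≫ V.ι
  have hef : fU ≫ W.ι = U.ι ≫ f := Scheme.Hom.resLE_comp_ι _ _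
  have heh : hS ≫ bS = W.ι ≫ h := by simp [hS, bS, hW']
  let FU := (Scheme.Modules.pullback U.ι).obj F
  haveI : Coh.IsQCoh FU := QCoh.isQCoh_pullback _ ‹_›
  have hFU : CohB1.IsFP FU := RGLib.Lim8.isFP_pullback _ ‹_› hF
  let i₀ : FU ≅ (Scheme.Modules.pullback (𝟙 (U : Scheme.{u}))).obj FU :=
    ((Scheme.Modules.pullbackId _).app FU).symm
  have step : ∀ z : (U : Scheme.{u}), FibreFlatAt fU hS FU z ↔ FibreFlatAt f h F (U.ι z) := fun z => by
    rw [← fibreFlatAt_restrictSource f h U.ι ‹Coh.IsQCoh F› (Iso.refl FU) z, ← hef]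
    have h1 := fibreFlatAt_restrictTarget h (isPullback_id_of_mono' fU W.ι) ‹Coh.IsQCoh FU› i₀ z
    rw [← heh] at h1
    have h2 := fibreFlatAt_baseChange (f := fU) (f' := fU) (b := bS) (isPullback_id_of_mono' hS bS)
      (isPullback_self fU) ‹Coh.IsQCoh FU› i₀ z
    exact h2.trans h1
  haveI : LocallyOfFinitePresentation hW' := by
    have : hW' ≫ V.ι = W.ι ≫ h := Scheme.Hom.resLE_comp_ι _ _
    haveI : LocallyOfFinitePresentation (hW' ≫ V.ι) := by rw [this]; infer_instance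
    exact Groth.Agent.AlgSpPts.locallyOfFinitePresentation_of_comp _ V.ι
  haveI : LocallyOfFinitePresentation (fU ≫ hS) := by
    have : (fU ≫ hW') ≫ V.ι = U.ι ≫ f ≫ h := by
      rw [Category.assoc, Scheme.Hom.resLE_comp_ι, ← Category.assoc, hef, Category.assoc]
    haveI : LocallyOfFinitePresentation ((fU ≫ hW') ≫ V.ι) := by rw [this]; infer_instance
    haveI := Groth.Agent.AlgSpPts.locallyOfFinitePresentation_of_comp (fU ≫ hW') V.ι
    show LocallyOfFinitePresentation (fU ≫ hW' ≫ (V : Scheme.{u}).isoSpec.hom)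
    rw [← Category.assoc]
    infer_instance
  obtain ⟨S₀, X₀, Y₀, π, f₀, h₀, qX, qY, G, _, _, _, _, _, sqY, sqX, hG, hGfp, ⟨iG⟩⟩ :=
    exists_model_mor_mod fU hS FU hFU
  haveI := hG
  have e : (U.ι ⁻¹' {x : X | FibreFlatAt f h F x} : Set (U : Scheme.{u})) = qX ⁻¹' {x | FibreFlatAt f₀ h₀ G x} :=
    Set.ext fun z => (step z).symm.trans (fibreFlatAt_baseChange sqY sqX hG iG z)
  rw [e]
  haveI : IsLocallyNoetherian X₀ := LocallyOfFiniteType.isLocallyNoetherian (f₀ ≫ h₀)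
  haveI : CompactSpace X₀ := QuasiCompact.compactSpace_of_compactSpace (f₀ ≫ h₀)
  haveI : QuasiCompact qX := quasiCompact_of_compactSpace _
  exact MorLib.LimCons.isConstructible_preimage qX (isConstructible_fibreFlat f₀ h₀ hGfp)

end Groth.Agent.ConsPropLib
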