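import Groth.Agent.ConsPropLib.FibreFlatMod
import Groth.Agent.S9350
import Groth.Agent.GrFlat5.FlatAtIso

/-!
# The locus of fibrewise flatness of a module (EGA IV 11.2.8)
-/

set_option backward.isDefEq.respectTransparency false
set_option backward.isDefEq.respectTransparency.types false
set_option linter.style.haveILetI false
set_option autoImplicit false

universe u

open CategoryTheory CategoryTheory.Limits AlgebraicGeometry TopologicalSpace Opposite IsLocalRing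

namespace Groth.Agent.ConsPropLib

variable {X Y S X' Y' S' : Scheme.{u}}

theorem isFlatOverAt_iso_iff {f : X ⟶ Y} {M N : X.Modules} (e : M ≅ N) (x : X) :
    FlatMod.IsFlatOverAt f M x ↔ FlatMod.IsFlatOverAt f N x :=
  ⟨GrFlat5.isFlatOverAt_of_iso f e x, GrFlat5.isFlatOverAt_of_iso f e.symm x⟩

theorem isFlatOverAt_comp (p : X ⟶ Y) (q : Y ⟶ S) (M : X.Modules) (x : X) (hq : (q.stalkMap (p x)).hom.Flat)
    (h : FlatMod.IsFlatOverAt p M x) : FlatMod.IsFlatOverAt (p ≫ q) M x := by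
  let A := S.presheaf.stalk (q (p x))
  let B := Y.presheaf.stalk (p x)
  letI : Algebra A B := (q.stalkMap (p x)).hom.toAlgebra
  letI mB : Module B (M.presheaf.stalk x) := FlatMod.moduleStalkOver p M x
  letI mA : Module A (M.presheaf.stalk x) := FlatMod.moduleStalkOver (p ≫ q) M x
  haveI : IsScalarTower A B (M.presheaf.stalk x) := IsScalarTower.of_algebraMap_smul fun a m => by
    show p.stalkMap x (q.stalkMap (p x) a) • m = (p ≫ q).stalkMap x a • m
    rw [Scheme.Hom.stalkMap_comp]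
    rfl
  haveI : Module.Flat A B := hq
  haveI : Module.Flat B (M.presheaf.stalk x) := h
  exact Module.Flat.trans A B _

/-- Flatness at a point descends and ascends along a flat base change. -/
theorem isFlatOverAt_iff_of_flat {f : X ⟶ Y} {f' : X' ⟶ Y'} {eX : X' ⟶ X} {eY : Y' ⟶ Y}
    (sq : IsPullback eX f' f eY) [Flat eY] {F : X.Modules} (hF : Coh.IsQCoh F) (x' : X') :
    FlatMod.IsFlatOverAt f' ((Scheme.Modules.pullback eX).obj F) x' ↔ FlatMod.IsFlatOverAt f F (eX x') := by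
  refine ⟨fun h => ?_, MorLib.FlatBC.isFlatOverAt_baseChange f f' eX eY sq F x'⟩
  have h1 := isFlatOverAt_comp f' eY _ x' (Flat.stalkMap _ _) h
  rw [← sq.w] at h1
  haveI : Flat eX := MorphismProperty.of_isPullback sq.flip ‹Flat eY›
  exact (Groth.Agent.S9350.result eX f F hF x' (Flat.stalkMap _ _)).2 h1

/-- The fibre module is flat along the map of fibres at the point `x`. -/
def FibreFlatAt (f : X ⟶ Y) (h : Y ⟶ S) (F : X.Modules) (x : X) : Prop :=
  ∀ (s : S) (w : ↥((f ≫ h).fiber s)), (f ≫ h).fiberι s w = x →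
    FlatMod.IsFlatOverAt (MoreMor.fiberMap f h s) ((Scheme.Modules.pullback ((f ≫ h).fiberι s)).obj F) w

theorem fibreFlatAt_iff (f : X ⟶ Y) (h : Y ⟶ S) (F : X.Modules) (s : S) (w : ↥((f ≫ h).fiber s)) :
    FibreFlatAt f h F ((f ≫ h).fiberι s w) ↔
      FlatMod.IsFlatOverAt (MoreMor.fiberMap f h s) ((Scheme.Modules.pullback ((f ≫ h).fiberι s)).obj F) w := by
  refine ⟨fun hh => hh s w rfl, fun hh s' w' e => ?_⟩
  have hs : ∀ (t : S) (v : ↥((f ≫ h).fiber t)), (f ≫ h) ((f ≫ h).fiberι t v) = t := fun t v => by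
    have : (f ≫ h).fiberι t v ∈ Set.range ((f ≫ h).fiberι t) := ⟨v, rfl⟩
    rwa [Scheme.Hom.range_fiberι] at this
  obtain rfl : s' = s := by rw [← hs s' w', e, hs s w]
  obtain rfl : w' = w := ((f ≫ h).fiberι s').isEmbedding.injective e
  exact hh

theorem exists_fibre_point (f : X ⟶ Y) (h : Y ⟶ S) (x : X) :
    ∃ w : ↥((f ≫ h).fiber (h (f x))), (f ≫ h).fiberι (h (f x)) w = x := by
  change x ∈ Set.range ((f ≫ h).fiberι (h (f x)))
  rw [Scheme.Hom.range_fiberι]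
  rfl

/-- Compatibility of maps of fibres with a flat extension. -/
theorem flat_fibre_squares {Xs Ys Xs' Ys' : Scheme.{u}} {f : X ⟶ Y} {ιX : Xs ⟶ X} {ιY : Ys ⟶ Y} {fs : Xs ⟶ Ys}
    (sq : IsPullback ιX fs f ιY) {ιX' : Xs' ⟶ X} {ιY' : Ys' ⟶ Y} {fs' : Xs' ⟶ Ys'}
    (sq' : IsPullback ιX' fs' f ιY') (e : Ys' ⟶ Ys) [Flat e] (he : e ≫ ιY = ιY')
    {F : X.Modules} (hF : Coh.IsQCoh F) (x' : Xs') :
    ∃ x : Xs, ιX x = ιX' x' ∧ (FlatMod.IsFlatOverAt fs' ((Scheme.Modules.pullback ιX').obj F) x' ↔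
      FlatMod.IsFlatOverAt fs ((Scheme.Modules.pullback ιX).obj F) x) := by
  subst he
  let ex := sq.lift ιX' (fs' ≫ e) (by rw [Category.assoc]; exact sq'.w)
  have hex : ex ≫ ιX = ιX' := sq.lift_fst _ _ _
  have sq2 : IsPullback ex fs' fs e := IsPullback.of_right (hex.symm ▸ sq') (sq.lift_snd _ _ _) sq
  refine ⟨ex x', by rw [← Scheme.Hom.comp_apply, hex], ?_⟩
  rw [← isFlatOverAt_iff_of_flat sq2 (QCoh.isQCoh_pullback ιX hF) x']
  exact isFlatOverAt_iso_iff (eqToIso (by rw [hex]) ≪≫ ((Scheme.Modules.pullbackComp ex ιX).app F).symm) x'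

/-- The predicate can be computed on any pair of fibre squares. -/
theorem flat_of_fibreFlatAt (f : X ⟶ Y) (h : Y ⟶ S) {F : X.Modules} (hF : Coh.IsQCoh F) {s : S}
    {Xs Ys : Scheme.{u}} {ιX : Xs ⟶ X} {ιY : Ys ⟶ Y} {fs : Xs ⟶ Ys} {pY : Ys ⟶ Spec (S.residueField s)}
    (sqY : IsPullback ιY pY h (S.fromSpecResidueField s)) (sqX : IsPullback ιX fs f ιY) (x' : Xs) :
    FibreFlatAt f h F (ιX x') ↔ FlatMod.IsFlatOverAt fs ((Scheme.Modules.pullback ιX).obj F) x' := by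
  let e := sqY.isoIsPullback _ _ (IsPullback.of_hasPullback h (S.fromSpecResidueField s))
  obtain ⟨w, hw, hiff⟩ := flat_fibre_squares (isPullback_fiberMap f h s) sqX e.hom
    (IsPullback.isoIsPullback_hom_fst _ _ _ _) hF x'
  rw [← hw, fibreFlatAt_iff]
  exact hiff.symm

/-- Compatibility with a cartesian square over `Y`, when the map of fibres is flat. -/
theorem fibreFlatAt_compat {f : X ⟶ Y} {h : Y ⟶ S} {f' : X' ⟶ Y'} {h' : Y' ⟶ S'} {eX : X' ⟶ X} {eY : Y' ⟶ Y}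
    (sq : IsPullback eX f' f eY)
    (he : ∀ s' : S', ∃ (s : S) (e : h'.fiber s' ⟶ h.fiber s), Flat e ∧ e ≫ h.fiberι s = h'.fiberι s' ≫ eY)
    {F : X.Modules} (hF : Coh.IsQCoh F) {F' : X'.Modules} (i : F' ≅ (Scheme.Modules.pullback eX).obj F) (x' : X') :
    FibreFlatAt f' h' F' x' ↔ FibreFlatAt f h F (eX x') := by
  obtain ⟨w', hw'⟩ := exists_fibre_point f' h' x'
  obtain ⟨s, e, _, hfac⟩ := he (h' (f' x'))
  obtain ⟨w, hw, hiff⟩ := flat_fibre_squares (isPullback_fiberMap f h s)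
    ((isPullback_fiberMap f' h' (h' (f' x'))).paste_horiz sq) e hfac hF w'
  generalize h' (f' x') = s' at e w' hw' hfac hw hiff
  subst hw'
  rw [← Scheme.Hom.comp_apply, ← hw, fibreFlatAt_iff, fibreFlatAt_iff, ← hiff]
  exact isFlatOverAt_iso_iff ((Scheme.Modules.pullback _).mapIso i ≪≫
    (Scheme.Modules.pullbackComp ((f' ≫ h').fiberι s') eX).app F) w'

theorem fibreFlatAt_baseChange {f : X ⟶ Y} {h : Y ⟶ S} {f' : X' ⟶ Y'} {h' : Y' ⟶ S'} {eX : X' ⟶ X} {eY : Y' ⟶ Y}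
    {b : S' ⟶ S} (sqY : IsPullback eY h' h b) (sq : IsPullback eX f' f eY)
    {F : X.Modules} (hF : Coh.IsQCoh F) {F' : X'.Modules} (i : F' ≅ (Scheme.Modules.pullback eX).obj F) (x' : X') :
    FibreFlatAt f' h' F' x' ↔ FibreFlatAt f h F (eX x') := by
  refine fibreFlatAt_compat sq (fun s' => ?_) hF i x'
  obtain ⟨e, he, hι⟩ := exists_fibre_pullback sqY s'
  have h1 : Flat (Spec.map (b.residueFieldMap s')) := by
    rw [Flat.SpecMap_iff]
    let := (b.residueFieldMap s').hom.toAlgebra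
    exact RingHom.flat_algebraMap_iff.2 inferInstance
  exact ⟨_, e, MorphismProperty.of_isPullback (P := (@Flat : MorphismProperty Scheme.{u})) he.flip h1, hι⟩

theorem fibreFlatAt_restrictTarget {f : X ⟶ Y} (h : Y ⟶ S) {f' : X' ⟶ Y'} {eX : X' ⟶ X} {eY : Y' ⟶ Y}
    [Flat eY] (sq : IsPullback eX f' f eY)
    {F : X.Modules} (hF : Coh.IsQCoh F) {F' : X'.Modules} (i : F' ≅ (Scheme.Modules.pullback eX).obj F) (x' : X') :
    FibreFlatAt f' (eY ≫ h) F' x' ↔ FibreFlatAt f h F (eX x') :=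
  fibreFlatAt_compat sq (fun s => ⟨s, MoreMor.fiberMap eY h s,
    MorphismProperty.of_isPullback (P := (@Flat : MorphismProperty Scheme.{u})) (isPullback_fiberMap eY h s) ‹Flat eY›,
    fiberMap_comp_ι eY h s⟩) hF i x'

theorem fibreFlatAt_restrictSource (f : X ⟶ Y) (h : Y ⟶ S) (eX : X' ⟶ X) [Flat eX]
    {F : X.Modules} (hF : Coh.IsQCoh F) {F' : X'.Modules} (i : F' ≅ (Scheme.Modules.pullback eX).obj F) (x' : X') :
    FibreFlatAt (eX ≫ f) h F' x' ↔ FibreFlatAt f h F (eX x') := by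
  obtain ⟨w', hw'⟩ := exists_fibre_point (eX ≫ f) h x'
  generalize h ((eX ≫ f) x') = s at w' hw'
  subst hw'
  let ex := (isPullback_fiberMap f h s).lift (((eX ≫ f) ≫ h).fiberι s ≫ eX) (MoreMor.fiberMap (eX ≫ f) h s)
    ((Category.assoc _ _ _).trans (fiberMap_comp_ι _ _ _).symm)
  have hex : ex ≫ (f ≫ h).fiberι s = ((eX ≫ f) ≫ h).fiberι s ≫ eX := (isPullback_fiberMap f h s).lift_fst _ _ _
  have hex2 : ex ≫ MoreMor.fiberMap f h s = MoreMor.fiberMap (eX ≫ f) h s :=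
    (isPullback_fiberMap f h s).lift_snd _ _ _
  have sq2 : IsPullback (((eX ≫ f) ≫ h).fiberι s) ex eX ((f ≫ h).fiberι s) := by
    refine IsPullback.of_bot ?_ hex.symm (isPullback_fiberMap f h s)
    rw [hex2]
    exact isPullback_fiberMap (eX ≫ f) h s
  haveI : Flat ex := MorphismProperty.of_isPullback (P := (@Flat : MorphismProperty Scheme.{u})) sq2 ‹Flat eX›
  rw [← Scheme.Hom.comp_apply, ← hex, Scheme.Hom.comp_apply, fibreFlatAt_iff, fibreFlatAt_iff,
    Groth.Agent.S9350.result ex _ _ (QCoh.isQCoh_pullback _ hF) w' (Flat.stalkMap _ _), hex2]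
  exact isFlatOverAt_iso_iff ((Scheme.Modules.pullback _).mapIso i ≪≫
    (Scheme.Modules.pullbackComp (((eX ≫ f) ≫ h).fiberι s) eX).app F ≪≫ eqToIso (by rw [hex]) ≪≫
    ((Scheme.Modules.pullbackComp ex ((f ≫ h).fiberι s)).app F).symm) w'

end Groth.Agent.ConsPropLib
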