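import Groth.Agent.S4847
import Groth.Agent.S4863
import Groth.Agent.S4698
import Groth.Agent.FlatBC5.Basic
import Groth.Agent.MorLib.FlatBC
import Groth.Agent.QCoh.LocFree
import Groth.Agent.FibFlat.Stalk
import Groth.Agent.ConsPropLib.PointwiseProps
import Groth.Agent.ConsPropLib.FibreTop

/-!
# Flatness of a module along the maps of fibres (EGA IV 9.5, 11.3.10)
-/

set_option backward.isDefEq.respectTransparency false
set_option backward.isDefEq.respectTransparency.types false
set_option linter.style.haveILetI false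
set_option autoImplicit false

universe u

open CategoryTheory CategoryTheory.Limits AlgebraicGeometry TopologicalSpace Opposite TensorProduct IsLocalRing

namespace Groth.Agent.ConsPropLib

theorem flat_quot_of_flat_baseChange {R C M : Type u} [CommRing R] [CommRing C] [Algebra R C]
    [AddCommGroup M] [Module R M] (hs : Function.Surjective (algebraMap R C)) {I : Ideal R}
    (hI : RingHom.ker (algebraMap R C) = I) [Module.Flat C (C ⊗[R] M)] :
    Module.Flat (R ⧸ I) (M ⧸ I • (⊤ : Submodule R M)) := by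
  subst hI
  let e := RingHom.quotientKerEquivOfSurjective hs
  letI : Algebra C (R ⧸ RingHom.ker (algebraMap R C)) := e.symm.toRingHom.toAlgebra
  haveI : IsScalarTower R C (R ⧸ RingHom.ker (algebraMap R C)) :=
    .of_algebraMap_eq fun r => (e.symm_apply_apply (Ideal.Quotient.mk _ r)).symm
  haveI h1 : Module.Flat (R ⧸ RingHom.ker (algebraMap R C)) ((R ⧸ RingHom.ker (algebraMap R C)) ⊗[R] M) :=
    Module.Flat.of_linearEquiv (AlgebraTensorModule.cancelBaseChange R C _ (R ⧸ RingHom.ker (algebraMap R C)) M).symm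
  let e' : ((R ⧸ RingHom.ker (algebraMap R C)) ⊗[R] M) ≃ₗ[R ⧸ RingHom.ker (algebraMap R C)]
      M ⧸ RingHom.ker (algebraMap R C) • (⊤ : Submodule R M) :=
    { (TensorProduct.quotTensorEquivQuotSMul M (RingHom.ker (algebraMap R C))) with
      map_smul' := fun c z => by
        obtain ⟨c, rfl⟩ := Ideal.Quotient.mk_surjective c
        show TensorProduct.quotTensorEquivQuotSMul M _ (algebraMap R (R ⧸ RingHom.ker (algebraMap R C)) c • z) =
          algebraMap R (R ⧸ RingHom.ker (algebraMap R C)) c • TensorProduct.quotTensorEquivQuotSMul M _ z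
        rw [algebraMap_smul, algebraMap_smul, map_smul] }
  exact Module.Flat.of_linearEquiv e'.symm

/-- A module whose base change is flat has flat stalk after tensoring with the local ring upstairs. -/
theorem flat_tensor_stalk {X S X' T : Scheme.{u}} {u : X ⟶ S} {u' : X' ⟶ T} {g' : X' ⟶ X} {h : T ⟶ S}
    {F : X.Modules} (hc : IsPullback g' u' u h) (hF : Coh.IsQCoh F) (x : X) (t : T) (e : h t = u x)
    (hall : ∀ x', FlatMod.IsFlatOverAt u' ((Scheme.Modules.pullback g').obj F) x') :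
    letI := FlatMod.moduleStalkOver u F x
    letI := (FibFlat.sm h t (u x) e).toAlgebra
    Module.Flat (T.presheaf.stalk t) (T.presheaf.stalk t ⊗[S.presheaf.stalk (u x)] F.presheaf.stalk x) := by
  obtain ⟨V, U, O, hV, hU, hO, hUV, hOV, hxU, htO⟩ := FlatBC5.exists_charts u h x t e.symm
  have hflat := (FlatBC5.flat_tensor_iff hc hF hV hU hUV hO hOV).2 fun x' _ _ => hall x'
  letI : Algebra Γ(S, V) Γ(T, O) := (h.appLE V O hOV).hom.toAlgebra
  letI : Algebra Γ(S, V) Γ(X, U) := (u.appLE V U hUV).hom.toAlgebra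
  letI : Module Γ(S, V) Γ(F, U) := Module.compHom _ (u.appLE V U hUV).hom
  haveI : IsScalarTower Γ(S, V) Γ(X, U) Γ(F, U) := .of_algebraMap_smul fun _ _ => rfl
  haveI : Module.Flat Γ(T, O) (Γ(T, O) ⊗[Γ(S, V)] Γ(F, U)) := hflat
  let C := T.presheaf.stalk t
  letI : Algebra Γ(T, O) C := QCoh.stalkAlg htO
  letI : Algebra Γ(S, V) C := ((h.appLE V O hOV) ≫ T.presheaf.germ O t htO).hom.toAlgebra
  haveI : IsScalarTower Γ(S, V) Γ(T, O) C := .of_algebraMap_eq fun _ => rfl
  have h1 : Module.Flat C (C ⊗[Γ(S, V)] Γ(F, U)) :=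
    Module.Flat.of_linearEquiv (AlgebraTensorModule.cancelBaseChange Γ(S, V) Γ(T, O) C C Γ(F, U)).symm
  letI := QCoh.stalkModule F hxU
  letI : Module Γ(S, V) (F.presheaf.stalk x) := Module.compHom _ ((u.appLE V U hUV) ≫ X.presheaf.germ U x hxU).hom
  haveI : IsScalarTower Γ(S, V) Γ(X, U) (F.presheaf.stalk x) := .of_algebraMap_smul fun _ _ => rfl
  haveI := QCoh.isLocalizedModule_germLin hF hU hxU
  haveI h2 : Module.Flat C (C ⊗[Γ(S, V)] F.presheaf.stalk x) :=
    FlatBC5.flat_baseChange_of_isLocalizedModule C (hU.primeIdealOf ⟨x, hxU⟩).asIdeal.primeCompl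
      (QCoh.germLin F hxU) h1
  have hxV : u x ∈ V := hUV hxU
  let R := S.presheaf.stalk (u x)
  letI : Algebra Γ(S, V) R := QCoh.stalkAlg hxV
  haveI := QCoh.isLocalization_stalk' hV hxV
  letI : Algebra R C := (FibFlat.sm h t (u x) e).toAlgebra
  haveI : IsScalarTower Γ(S, V) R C := .of_algebraMap_eq fun a => by
    show T.presheaf.germ O t htO (h.appLE V O hOV a) =
      h.stalkMap t (S.presheaf.stalkSpecializes (specializes_of_eq e) (S.presheaf.germ V (u x) hxV a))
    rw [TopCat.Presheaf.germ_stalkSpecializes_apply, Scheme.Hom.germ_stalkMap_apply]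
    exact T.presheaf.germ_res_apply (homOfLE hOV) t htO _
  letI := FlatMod.moduleStalkOver u F x
  haveI : IsScalarTower Γ(S, V) R (F.presheaf.stalk x) := .of_algebraMap_smul fun a m => by
    show u.stalkMap x (S.presheaf.germ V (u x) hxV a) • m = X.presheaf.germ U x hxU (u.appLE V U hUV a) • m
    rw [Scheme.Hom.germ_stalkMap_apply]
    exact congrArg (fun r => r • m) (X.presheaf.germ_res_apply (homOfLE hUV) x hxU _).symm
  exact FlatBC5.flat_tensor_localization (hV.primeIdealOf ⟨u x, hxV⟩).asIdeal.primeCompl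

variable {X Y S : Scheme.{u}}

/-- Flatness along the map of fibres over `s` gives flatness of the fibre stalks. -/
theorem flat_fibreStalk_of_isFlatOver_fibre (f : X ⟶ Y) (g : Y ⟶ S) {F : X.Modules} (hF : Coh.IsQCoh F) (x : X)
    (hfl : FlatMod.IsFlatOver (MoreMor.fiberMap f g (g (f x)))
      ((Scheme.Modules.pullback ((f ≫ g).fiberι (g (f x)))).obj F)) :
    letI := FlatMod.moduleStalkOver f F x
    Module.Flat (↑(Y.presheaf.stalk (f x)) ⧸
        Ideal.map (g.stalkMap (f x)).hom (IsLocalRing.maximalIdeal ↑(S.presheaf.stalk (g (f x)))))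
      (↑(F.presheaf.stalk x) ⧸
        (Ideal.map (g.stalkMap (f x)).hom (IsLocalRing.maximalIdeal ↑(S.presheaf.stalk (g (f x)))) •
          (⊤ : Submodule ↑(Y.presheaf.stalk (f x)) ↑(F.presheaf.stalk x)))) := by
  obtain ⟨t, ht⟩ : f x ∈ Set.range (g.fiberι (g (f x))) := by rw [Scheme.Hom.range_fiberι]; rfl
  letI := FlatMod.moduleStalkOver f F x
  letI := (FibFlat.sm (g.fiberι (g (f x))) t (f x) ht).toAlgebra
  haveI := flat_tensor_stalk (isPullback_fiberMap f g (g (f x))) hF x t ht hfl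
  refine flat_quot_of_flat_baseChange (R := Y.presheaf.stalk (f x)) (C := (g.fiber (g (f x))).presheaf.stalk t)
    (M := F.presheaf.stalk x) ?_ ?_
  · exact FibFlat.surjective_sm _ _ _
  · refine (FibFlat.ker_sm_fiberι g _ t (f x) ht).trans ?_
    rw [FibFlat.sm_self]

/-- EGA IV 9.5.? : non-flatness of the fibre module propagates from the generic fibre. -/
theorem exists_nhd_not_isFlatOver_fibre [IsIntegral S] [IsNoetherian S]
    (f : X ⟶ Y) (g : Y ⟶ S) [LocallyOfFiniteType g] [QuasiCompact g]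
    [LocallyOfFiniteType (f ≫ g)] [QuasiCompact (f ≫ g)]
    (F : X.Modules) [Coh.IsQCoh F] (hF : CohB1.IsFP F)
    (hη : ¬ FlatMod.IsFlatOver (MoreMor.fiberMap f g (genericPoint S))
      ((Scheme.Modules.pullback ((f ≫ g).fiberι (genericPoint S))).obj F)) :
    ∃ U : S.Opens, genericPoint S ∈ U ∧ ∀ s ∈ U, ¬ FlatMod.IsFlatOver (MoreMor.fiberMap f g s)
      ((Scheme.Modules.pullback ((f ≫ g).fiberι s)).obj F) := by
  haveI : IsLocallyNoetherian Y := LocallyOfFiniteType.isLocallyNoetherian g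
  haveI : LocallyOfFiniteType f := locallyOfFiniteType_of_comp f g
  haveI : IsLocallyNoetherian X := LocallyOfFiniteType.isLocallyNoetherian (f ≫ g)
  haveI : CompactSpace X := QuasiCompact.compactSpace_of_compactSpace (f ≫ g)
  haveI : AlgebraicGeometry.IsNoetherian X := {}
  haveI : LocallyOfFinitePresentation f := inferInstance
  have hcoh : Coh.IsCoh F := ⟨‹_›, QCoh.isFT_of_isFP hF⟩
  obtain ⟨U₀, hU₀, hgen⟩ := Groth.Agent.S4698.result (f ≫ g) F hcoh
  obtain ⟨x', hx'⟩ := not_forall.1 hη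
  let x₀ := (f ≫ g).fiberι (genericPoint S) x'
  have hx₀ : ¬ FlatMod.IsFlatOverAt f F x₀ := fun h => hx'
    (MorLib.FlatBC.isFlatOverAt_baseChange f _ _ (g.fiberι (genericPoint S))
      (isPullback_fiberMap f g (genericPoint S)) F x' h)
  have hx₀η : (f ≫ g) x₀ = genericPoint S := by
    have : x₀ ∈ Set.range ((f ≫ g).fiberι (genericPoint S)) := ⟨x', rfl⟩
    rwa [Scheme.Hom.range_fiberι] at this
  obtain ⟨W, hW, hηW, hmeet⟩ := image_meet (f ≫ g) (A := {x : X | FlatMod.IsFlatOverAt f F x}ᶜ)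
    (SpecLib.isConstructible_of_isOpen (Groth.Agent.S4863.result f F hF)).compl hx₀ hx₀η
  refine ⟨⟨W, hW⟩ ⊓ U₀, ⟨hηW, ((genericPoint_spec S).mem_open_set_iff U₀.2).2 (by simpa using hU₀)⟩, ?_⟩
  rintro s ⟨hsW, hsU⟩ hfl
  obtain ⟨x, hx, rfl⟩ := hmeet s hsW
  apply hx
  by_cases hnt : Nontrivial ↑(F.presheaf.stalk x)
  · exact ((Groth.Agent.S4847.result f g F hcoh x hnt).1
      ⟨hgen x hsU, flat_fibreStalk_of_isFlatOver_fibre f g ‹_› x hfl⟩).2
  · haveI : Subsingleton ↑(F.presheaf.stalk x) := not_nontrivial_iff_subsingleton.1 hnt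
    letI := FlatMod.moduleStalkOver f F x
    exact (inferInstance : Module.Flat ↑(Y.presheaf.stalk (f x)) ↑(F.presheaf.stalk x))

end Groth.Agent.ConsPropLib
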