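import Groth.Agent.ConsPropLib.FibreFlatCons
import Groth.Agent.QCoh.PullStalk

/-!
# Fibrewise flatness of a module in terms of the stalks, and its locus on the base (EGA IV 11.2.8)
-/

set_option backward.isDefEq.respectTransparency false
set_option backward.isDefEq.respectTransparency.types false
set_option linter.style.haveILetI false
set_option autoImplicit false

universe u

open CategoryTheory CategoryTheory.Limits AlgebraicGeometry TopologicalSpace Opposite Topology TensorProduct
  Groth.Agent.MorLib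

namespace Groth.Agent.ConsPropLib

theorem isScalarTower_quot {R C N : Type u} [CommRing R] [CommRing C] [Algebra R C] [AddCommGroup N] [Module C N]
    [Module R N] [IsScalarTower R C N] (I : Ideal R) (hI : I ≤ RingHom.ker (algebraMap R C)) :
    ∀ (r : R) (n : N), r ∈ I → r • n = 0 := fun r n hr => by
  rw [← algebraMap_smul C r n, RingHom.mem_ker.1 (hI hr), zero_smul]

/-- Transfer of flatness along a presentation of both ring and module as quotients. -/
theorem flat_of_flat_quot {R C M N : Type u} [CommRing R] [CommRing C] [AddCommGroup M] [Module R M]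
    [AddCommGroup N] [Module C N] (π : R →+* C) (hπ : Function.Surjective π) {I : Ideal R}
    (hI : RingHom.ker π = I) (φ : M →+ N) (hφ : Function.Surjective φ)
    (hsmul : ∀ (r : R) (m : M), φ (r • m) = π r • φ m)
    (hker : ∀ m, φ m = 0 ↔ m ∈ I • (⊤ : Submodule R M))
    [Module.Flat (R ⧸ I) (M ⧸ I • (⊤ : Submodule R M))] : Module.Flat C N := by
  subst hI
  let e := RingHom.quotientKerEquivOfSurjective hπ
  letI : Algebra (R ⧸ RingHom.ker π) C := e.toRingHom.toAlgebra
  letI : Algebra C (R ⧸ RingHom.ker π) := e.symm.toRingHom.toAlgebra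
  letI : Algebra R C := π.toAlgebra
  letI : Module R N := Module.compHom N π
  let φ' : M →ₗ[R] N := { φ with map_smul' := hsmul }
  have hker' : LinearMap.ker φ' = RingHom.ker π • (⊤ : Submodule R M) := Submodule.ext hker
  let ψ : (M ⧸ RingHom.ker π • (⊤ : Submodule R M)) ≃ₗ[R] N :=
    (Submodule.quotEquivOfEq _ _ hker'.symm).trans (φ'.quotKerEquivOfSurjective hφ)
  letI : Module (R ⧸ RingHom.ker π) N := Module.compHom N e.toRingHom
  haveI : IsScalarTower R (R ⧸ RingHom.ker π) N := IsScalarTower.of_algebraMap_smul fun r n => rfl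
  let ψ' : (M ⧸ RingHom.ker π • (⊤ : Submodule R M)) ≃ₗ[R ⧸ RingHom.ker π] N :=
    ψ.extendScalarsOfSurjective Ideal.Quotient.mk_surjective
  haveI : Module.Flat (R ⧸ RingHom.ker π) N := Module.Flat.of_linearEquiv ψ'.symm
  haveI : IsScalarTower C (R ⧸ RingHom.ker π) N := IsScalarTower.of_algebraMap_smul fun c n => by
    show e (e.symm c) • n = c • n
    rw [RingEquiv.apply_symm_apply]
  haveI : Module.Flat C (R ⧸ RingHom.ker π) :=
    RingHom.flat_algebraMap_iff.1 (RingHom.Flat.of_bijective e.symm.bijective)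
  exact Module.Flat.trans C (R ⧸ RingHom.ker π) N

variable {X Y S : Scheme.{u}}

theorem fibreFlatAt_of_flat_fibreStalk (f : X ⟶ Y) (h : Y ⟶ S) {F : X.Modules} (hF : Coh.IsQCoh F) (x : X)
    (hfl : letI := FlatMod.moduleStalkOver f F x
      Module.Flat (↑(Y.presheaf.stalk (f x)) ⧸
          Ideal.map (h.stalkMap (f x)).hom (IsLocalRing.maximalIdeal ↑(S.presheaf.stalk (h (f x)))))
        (↑(F.presheaf.stalk x) ⧸
          (Ideal.map (h.stalkMap (f x)).hom (IsLocalRing.maximalIdeal ↑(S.presheaf.stalk (h (f x)))) •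
            (⊤ : Submodule ↑(Y.presheaf.stalk (f x)) ↑(F.presheaf.stalk x))))) :
    FibreFlatAt f h F x := by
  intro s w hw
  subst hw
  let fs := MoreMor.fiberMap f h s
  let ι := (f ≫ h).fiberι s
  let x₀ := ι w
  letI : Algebra (X.presheaf.stalk x₀) (((f ≫ h).fiber s).presheaf.stalk w) := (ι.stalkMap w).hom.toAlgebra
  obtain ⟨e⟩ := QCoh.nonempty_pullStalkEquiv ι hF w
  letI := FlatMod.moduleStalkOver fs ((Scheme.Modules.pullback ι).obj F) w
  letI := FlatMod.moduleStalkOver f F x₀
  have hy : h.fiberι s (fs w) = f x₀ := by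
    simp only [fs, x₀, ι, ← Scheme.Hom.comp_apply, fiberMap_comp_ι]
  let π := FibFlat.sm (h.fiberι s) (fs w) (f x₀) hy
  let μ : Y.presheaf.stalk (f x₀) →+* X.presheaf.stalk x₀ := (f.stalkMap x₀).hom
  have hπ : Function.Surjective π := FibFlat.surjective_sm _ _ _
  have hcomm : (fs.stalkMap w).hom.comp π = (ι.stalkMap w).hom.comp μ := by
    rw [← FibFlat.sm_self fs w, ← FibFlat.sm_comp fs (h.fiberι s) w (fs w) (f x₀) rfl hy]
    refine (FibFlat.sm_congr (fiberMap_comp_ι f h s) w (f x₀) _).trans ?_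
    rw [FibFlat.sm_comp ι f w x₀ (f x₀) rfl rfl, FibFlat.sm_self, FibFlat.sm_self]
  let φ : F.presheaf.stalk x₀ →+ ((Scheme.Modules.pullback ι).obj F).presheaf.stalk w :=
    e.symm.toAddMonoidHom.comp
      (TensorProduct.mk (X.presheaf.stalk x₀) (((f ≫ h).fiber s).presheaf.stalk w) (F.presheaf.stalk x₀) 1).toAddMonoidHom
  let K : Ideal (X.presheaf.stalk x₀) := RingHom.ker (ι.stalkMap w).hom
  have hK : K = ((IsLocalRing.maximalIdeal _).map (h.stalkMap (f x₀)).hom).map μ := by
    refine (FlatDvr.ker_stalkMap_fiberι (f ≫ h) w).trans ?_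
    rw [Scheme.Hom.stalkMap_comp, CommRingCat.hom_comp, ← Ideal.map_map]
    rfl
  have hsurj : Function.Surjective (algebraMap (X.presheaf.stalk x₀) (((f ≫ h).fiber s).presheaf.stalk w)) :=
    ι.stalkMap_surjective w
  refine flat_of_flat_quot π hπ (I := (IsLocalRing.maximalIdeal _).map (h.stalkMap (f x₀)).hom) ?_ φ ?_ ?_ ?_
  · refine (FibFlat.ker_sm_fiberι h _ (fs w) (f x₀) hy).trans ?_
    rw [FibFlat.sm_self]
  · exact e.symm.surjective.comp (TensorProduct.mk_surjective _ _ _ hsurj)
  · intro r m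
    show e.symm (1 ⊗ₜ[X.presheaf.stalk x₀] (μ r • m)) = (fs.stalkMap w).hom (π r) • e.symm (1 ⊗ₜ m)
    rw [← map_smul, TensorProduct.tmul_smul, ← RingHom.comp_apply (fs.stalkMap w).hom π, hcomm, RingHom.comp_apply]
    congr 1
  · intro m
    have h1 : φ m = 0 ↔ (1 : ((f ≫ h).fiber _).presheaf.stalk w) ⊗ₜ[X.presheaf.stalk x₀] m = 0 :=
      e.symm.map_eq_zero_iff
    have h2 : (1 : ((f ≫ h).fiber _).presheaf.stalk w) ⊗ₜ[X.presheaf.stalk x₀] m = 0 ↔
        m ∈ K • (⊤ : Submodule (X.presheaf.stalk x₀) (F.presheaf.stalk x₀)) := by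
      let eK := Ideal.quotientKerAlgEquivOfSurjective
        (f := Algebra.ofId (X.presheaf.stalk x₀) (((f ≫ h).fiber s).presheaf.stalk w)) hsurj
      let q := (TensorProduct.congr eK.symm.toLinearEquiv (LinearEquiv.refl _ (F.presheaf.stalk x₀))).trans
        (TensorProduct.quotTensorEquivQuotSMul (F.presheaf.stalk x₀) _)
      rw [← q.map_eq_zero_iff]
      have : q (1 ⊗ₜ m) = Submodule.Quotient.mk m := by
        show TensorProduct.quotTensorEquivQuotSMul (F.presheaf.stalk x₀) _ (eK.symm 1 ⊗ₜ m) = _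
        rw [map_one, ← map_one (Ideal.Quotient.mk _), TensorProduct.quotTensorEquivQuotSMul_mk_tmul, one_smul]
      rw [this, Submodule.Quotient.mk_eq_zero]
      rfl
    rw [h1, h2, hK]
    letI : Algebra (Y.presheaf.stalk (f x₀)) (X.presheaf.stalk x₀) := μ.toAlgebra
    haveI : IsScalarTower (Y.presheaf.stalk (f x₀)) (X.presheaf.stalk x₀) (F.presheaf.stalk x₀) :=
      IsScalarTower.of_algebraMap_smul fun _ _ => rfl
    rw [← Submodule.restrictScalars_mem (Y.presheaf.stalk (f x₀))]
    rw [show μ = algebraMap _ _ from rfl, Ideal.smul_restrictScalars, Submodule.restrictScalars_top]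

theorem lc_compl {T : Type u} [TopologicalSpace T] {A : Set T} (hA : IsLocallyConstructible A) :
    IsLocallyConstructible Aᶜ := fun t => by
  obtain ⟨U, h1, h2, h3⟩ := hA t
  exact ⟨U, h1, h2, h3.compl⟩

/-- The locus of fibrewise flatness on the base. -/
theorem isLocallyConstructible_setOf_fibre_flat (f : X ⟶ Y) (h : Y ⟶ S)
    [LocallyOfFinitePresentation h] [LocallyOfFinitePresentation (f ≫ h)] [QuasiCompact (f ≫ h)]
    (F : X.Modules) [Coh.IsQCoh F] (hF : CohB1.IsFP F) :
    IsLocallyConstructible {s : S | ∀ x : X, (f ≫ h) x = s → FibreFlatAt f h F x} := by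
  have hX : IsLocallyConstructible ({x : X | FibreFlatAt f h F x}ᶜ) :=
    lc_compl (isLocallyConstructible_fibreFlat f h F hF)
  have : {s : S | ∀ x : X, (f ≫ h) x = s → FibreFlatAt f h F x} =
      ((f ≫ h) '' {x : X | FibreFlatAt f h F x}ᶜ)ᶜ := by
    ext s
    exact ⟨fun hs ⟨z, hz, e⟩ => hz (hs z e), fun hs z e => by_contra fun hz => hs ⟨z, hz, e⟩⟩
  rw [this]
  exact lc_compl ((f ≫ h).isLocallyConstructible_image hX)

end Groth.Agent.ConsPropLib
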