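import Groth.Agent.ConsPropLib.FibreAss
import Groth.Agent.AssLib.Apply
import Groth.Agent.S2542
import Groth.Agent.KZ.OpenExt
import Groth.Agent.QCoh.DevissageP
import Mathlib.Algebra.Module.Torsion.Basic

/-!
# The locus of fibres on which a module is torsion-free (EGA IV 9.8)
-/

set_option autoImplicit false
set_option linter.style.haveILetI false
set_option backward.isDefEq.respectTransparency false
set_option backward.isDefEq.respectTransparency.types false

open CategoryTheory CategoryTheory.Limits AlgebraicGeometry Topology TopologicalSpace IsLocalRing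
  Groth.Agent.MorLib

namespace Groth.Agent.ConsPropLib

universe u

variable {Z : Scheme.{u}} [IsLocallyNoetherian Z]

/-- On a locally integral scheme a module is torsion-free iff its associated points are maximal. -/
theorem forall_torsion_eq_bot_iff {M : Z.Modules} (hM : Coh.IsQCoh M) (hdom : ∀ x : Z, IsDomain (Z.presheaf.stalk x)) :
    (∀ x : Z, Submodule.torsion (Z.presheaf.stalk x) (M.presheaf.stalk x) = ⊥) ↔
      ∀ z ∈ AssSch.Ass M, ∀ y, y ⤳ z → y = z := by
  constructor
  · intro h z hz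
    haveI := hdom z
    rw [← AssLib.dimZero_iff]
    have hbot : maximalIdeal (Z.presheaf.stalk z) = ⊥ := by
      by_contra hne
      obtain ⟨r, hr, hr0⟩ := Submodule.exists_mem_ne_zero_of_ne_bot hne
      obtain ⟨m, hm⟩ := ((AssLib.mem_ass_def M z).1 hz).2
      have hm0 : m ≠ 0 := fun hm0 => (maximalIdeal.isMaximal (Z.presheaf.stalk z)).ne_top (by
        rw [hm, hm0]; exact Ideal.radical_eq_top.2 (top_le_iff.1 fun a _ =>
          Submodule.mem_colon_singleton.2 (by rw [smul_zero]; exact zero_mem _)))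
      rw [hm] at hr
      obtain ⟨n, hn⟩ := hr
      have htor : m ∈ Submodule.torsion (Z.presheaf.stalk z) (M.presheaf.stalk z) := by
        rw [Submodule.mem_torsion_iff]
        exact ⟨⟨r ^ n, mem_nonZeroDivisors_of_ne_zero (pow_ne_zero n hr0)⟩,
          (Submodule.mem_bot _).1 (Submodule.mem_colon_singleton.1 hn)⟩
      rw [h z] at htor
      exact hm0 ((Submodule.mem_bot _).1 htor)
    intro P hP
    exact ((maximalIdeal.isMaximal (Z.presheaf.stalk z)).eq_of_le hP.ne_top (hbot ▸ bot_le)).symm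
  · intro h x
    haveI := hdom x
    rw [Submodule.eq_bot_iff]
    intro m hm
    by_contra hm0
    obtain ⟨a, ha⟩ := (Submodule.mem_torsion_iff m).1 hm
    haveI : IsNoetherianRing (Z.presheaf.stalk x) := inferInstance
    obtain ⟨q, hq, hle⟩ := exists_le_isAssociatedPrime_of_isNoetherianRing (Z.presheaf.stalk x) m hm0
    have haq : (a : Z.presheaf.stalk x) ∈ q := hle (Submodule.mem_colon_singleton.2 (by
      rw [show ((a : Z.presheaf.stalk x) • m) = 0 from ha]; exact zero_mem _))
    obtain ⟨U, hU, hxU, -⟩ := exists_isAffineOpen_mem_and_subset (x := x) (U := ⊤) trivial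
    obtain ⟨y, hyU, hy, hyx, he⟩ := AssLib.exists_point_of_ass_stalk hM hU hxU hq
    letI := QCoh.stalkAlg (X := Z) hxU
    haveI := QCoh.isLocalization_stalk' hU hxU
    obtain ⟨w, hwU, hw⟩ := QCoh.exists_point hU ⟨(⊥ : Ideal (Z.presheaf.stalk x)).comap (Z.presheaf.germ U x hxU).hom, inferInstance⟩
    have hwy : w ⤳ y := (AssLib.primeIdealOf_le_iff hU hyU hwU).1 (by
      rw [he, hw]; exact Ideal.comap_mono bot_le)
    obtain rfl := h y hy w hwy
    have hq0 : q = ⊥ := by
      have h2 : q.comap (Z.presheaf.germ U x hxU).hom = (⊥ : Ideal (Z.presheaf.stalk x)).comap (Z.presheaf.germ U x hxU).hom := by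
        rw [← he]
        exact congrArg PrimeSpectrum.asIdeal hw
      rw [← IsLocalization.map_under (hU.primeIdealOf ⟨x, hxU⟩).asIdeal.primeCompl (Z.presheaf.stalk x) q,
        ← IsLocalization.map_under (hU.primeIdealOf ⟨x, hxU⟩).asIdeal.primeCompl (Z.presheaf.stalk x) (⊥ : Ideal (Z.presheaf.stalk x))]
      exact congrArg (Ideal.map _) h2
    rw [hq0, Ideal.mem_bot] at haq
    exact nonZeroDivisors.coe_ne_zero a haq

theorem mem_ass_biprod_iff {M N : Z.Modules} (hM : Coh.IsCoh M) (hN : Coh.IsCoh N) (z : Z) :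
    z ∈ AssSch.Ass (M ⊞ N) ↔ z ∈ AssSch.Ass M ∨ z ∈ AssSch.Ass N := by
  have hMN := KZ.isCoh_biprod hM hN
  have h1 := Groth.Agent.S2542.result (ShortComplex.mk (biprod.inl : M ⟶ M ⊞ N) (biprod.snd : M ⊞ N ⟶ N) biprod.inl_snd)
    (ShortComplex.Splitting.ofHasBinaryBiproduct M N).shortExact hM.1 hMN.1 hN.1
  have h2 := Groth.Agent.S2542.result (ShortComplex.mk (biprod.inl : N ⟶ N ⊞ M) (biprod.snd : N ⊞ M ⟶ M) biprod.inl_snd)
    (ShortComplex.Splitting.ofHasBinaryBiproduct N M).shortExact hN.1 (KZ.isCoh_biprod hN hM).1 hM.1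
  refine ⟨fun h => h1.2 h, ?_⟩
  rintro (h | h)
  · exact h1.1 h
  · exact (mem_ass_of_iso (biprod.braiding N M) z).1 (h2.1 h)

theorem noEmbedded_biprod_structureModule_iff {M : Z.Modules} (hM : Coh.IsCoh M)
    (hdom : ∀ x : Z, IsDomain (Z.presheaf.stalk x)) :
    AssSch.NoEmbedded (Coh.structureModule Z ⊞ M) ↔ ∀ z ∈ AssSch.Ass M, ∀ y, y ⤳ z → y = z := by
  have hO := QCoh.isCoh_structureModule' (X := Z)
  have hmax : ∀ z, z ∈ AssSch.Ass (Coh.structureModule Z) → ∀ y, y ⤳ z → y = z := fun z hz => by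
    rw [← AssLib.dimZero_iff]
    haveI := hdom z
    obtain ⟨e, he0, he⟩ := (AssLib.mem_ass_structureModule_iff z).1 hz
    intro P hP
    refine ((maximalIdeal.isMaximal (Z.presheaf.stalk z)).eq_of_le hP.ne_top fun r hr => ?_).symm
    rw [(mul_eq_zero.1 (he r hr)).resolve_right he0]
    exact zero_mem _
  constructor
  · intro h z hz y hy
    obtain ⟨m, hmy, hm⟩ := FibDim.exists_maximal_generization y
    have hmO : m ∈ AssSch.Ass (Coh.structureModule Z) := AssLib.mem_ass_of_maximal hm
    obtain rfl := h z ((mem_ass_biprod_iff hO hM z).2 (.inr hz)) m ((mem_ass_biprod_iff hO hM m).2 (.inl hmO))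
      (hmy.trans hy)
    exact (hy.antisymm hmy).eq
  · intro h z hz y _ hyz
    rcases (mem_ass_biprod_iff hO hM z).1 hz with hz | hz
    · exact (hmax z hz y hyz).symm
    · exact (h z hz y hyz).symm

theorem isLocallyConstructible_torsionFreeLocus {X S : Scheme.{u}} (f : X ⟶ S) [IsLocallyNoetherian S]
    [LocallyOfFiniteType f] [QuasiCompact f] {F : X.Modules} (hFq : Coh.IsQCoh F) (hF : CohB1.IsFP F)
    (hint : ∀ (s : S) (x : ↥(f.fiber s)), IsDomain ((f.fiber s).presheaf.stalk x)) :
    IsLocallyConstructible {s : S | ∀ x : ↥(f.fiber s),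
      Submodule.torsion ((f.fiber s).presheaf.stalk x) (((Scheme.Modules.pullback (f.fiberι s)).obj F).presheaf.stalk x) = ⊥} := by
  haveI : IsLocallyNoetherian X := LocallyOfFiniteType.isLocallyNoetherian f
  have hFc : Coh.IsCoh F := ⟨hFq, QCoh.isFT_of_isFP hF⟩
  have hG : Coh.IsCoh (Coh.structureModule X ⊞ F) := KZ.isCoh_biprod QCoh.isCoh_structureModule' hFc
  haveI : QuasiSeparated f := inferInstance
  convert isLocallyConstructible_locusMod isConsMod_noEmbedded f hG.1 (isFP_of_isCoh' hG) using 1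
  ext s
  haveI : IsLocallyNoetherian (f.fiber s) := LocallyOfFiniteType.isLocallyNoetherian (f.fiberToSpecResidueField s)
  haveI := preservesBinaryBiproduct_of_preservesBinaryCoproduct (Scheme.Modules.pullback (f.fiberι s))
    (X := Coh.structureModule X) (Y := F)
  let i : (Scheme.Modules.pullback (f.fiberι s)).obj (Coh.structureModule X ⊞ F) ≅
      Coh.structureModule (f.fiber s) ⊞ (Scheme.Modules.pullback (f.fiberι s)).obj F :=
    (Scheme.Modules.pullback (f.fiberι s)).mapBiprod _ _ ≪≫
      biprod.mapIso (PicClLib.nonempty_pullback_structureModule (f.fiberι s)).some (Iso.refl _)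
  show (∀ x, _ = ⊥) ↔ AssSch.NoEmbedded ((Scheme.Modules.pullback (f.fiberι s)).obj (Coh.structureModule X ⊞ F))
  rw [forall_torsion_eq_bot_iff (QCoh.isQCoh_pullback _ hFq) (hint s),
    ← noEmbedded_biprod_structureModule_iff (ZClosLib.isCoh_pullback _ hFc) (hint s)]
  simp only [AssSch.NoEmbedded, mem_ass_of_iso i]

end Groth.Agent.ConsPropLib
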