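import Groth.Agent.ConsPropLib.LociMod
import Mathlib

/-! # Constructible sets near a generic point -/

universe u

set_option autoImplicit false

open Topology Set TopologicalSpace

namespace Groth.Agent.ConsPropLib

theorem interior_dichotomy {X : Type u} [TopologicalSpace X] {η : X}
    (hη : ∀ U : Set X, IsOpen U → U.Nonempty → η ∈ U) {s : Set X} (hs : IsConstructible s) :
    η ∈ interior s ∨ η ∈ interior sᶜ := by
  induction hs using IsConstructible.empty_union_induction with
  | open_retrocompact U hU _ =>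
    rcases U.eq_empty_or_nonempty with h | h
    · exact Or.inr (by simp [h])
    · exact Or.inl (by rw [hU.interior_eq]; exact hη U hU h)
  | union s _ t _ h1 h2 =>
    rcases h1 with h1 | h1
    · exact Or.inl (interior_mono subset_union_left h1)
    rcases h2 with h2 | h2
    · exact Or.inl (interior_mono subset_union_right h2)
    · exact Or.inr (by rw [compl_union, interior_inter]; exact ⟨h1, h2⟩)
  | compl s _ h => rw [compl_compl]; exact h.symm

theorem generic_subspace {X : Type u} [TopologicalSpace X] {η : X}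
    (hη : ∀ U : Set X, IsOpen U → U.Nonempty → η ∈ U) {U : Set X} (hU : IsOpen U) (hηU : η ∈ U) :
    ∀ V : Set U, IsOpen V → V.Nonempty → (⟨η, hηU⟩ : U) ∈ V := fun V hV hne => by
  obtain ⟨z, hz, e⟩ := hη _ (hU.isOpenEmbedding_subtypeVal.isOpenMap V hV) (hne.image _)
  obtain rfl : z = ⟨η, hηU⟩ := Subtype.ext e
  exact hz

theorem interior_dichotomy_of_loc {X : Type u} [TopologicalSpace X] {η : X}
    (hη : ∀ U : Set X, IsOpen U → U.Nonempty → η ∈ U) {s : Set X} (hs : IsLocallyConstructible s) :
    η ∈ interior s ∨ η ∈ interior sᶜ := by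
  obtain ⟨U, hU', hU, hc⟩ := hs η
  have hηU := mem_of_mem_nhds hU'
  have hsub : ∀ t : Set X, (⟨η, hηU⟩ : U) ∈ interior ((↑) ⁻¹' t) → η ∈ interior t := fun t h =>
    interior_maximal (image_subset_iff.2 interior_subset)
      (hU.isOpenEmbedding_subtypeVal.isOpenMap _ isOpen_interior) ⟨_, h, rfl⟩
  exact (interior_dichotomy (generic_subspace hη hU hηU) hc).imp (hsub s) (hsub sᶜ)

theorem mem_interior_of_indConstructible {X : Type u} [TopologicalSpace X] {η : X}
    (hη : ∀ U : Set X, IsOpen U → U.Nonempty → η ∈ U) {s : Set X} (hs : ProCons.IsIndConstructible s)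
    (h : η ∈ s) : η ∈ interior s := by
  obtain ⟨U, hU, hηU, C, hC, e⟩ := hs η
  obtain ⟨t, ht, hηt⟩ := (e ▸ h : (⟨η, hηU⟩ : U) ∈ ⋃₀ C)
  rcases interior_dichotomy_of_loc (generic_subspace hη hU hηU) (hC t ht) with h' | h'
  · exact interior_maximal (image_subset_iff.2 (interior_subset.trans (e ▸ subset_sUnion_of_mem ht)))
      (hU.isOpenEmbedding_subtypeVal.isOpenMap _ isOpen_interior) ⟨_, h', rfl⟩
  · exact absurd hηt (interior_subset h')

end Groth.Agent.ConsPropLib
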