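import Groth.Agent.S3427
import Groth.Agent.QCoh.AnnIdeal
import Groth.Agent.QCoh.Support
import Groth.Agent.QCoh.Stalk
import Groth.Agent.RGLib.Lim8Zero
import Mathlib.Algebra.Module.Torsion.Basic

/-!
# The locus of fibres on which a module is torsion
-/

set_option autoImplicit false
set_option linter.style.haveILetI false
set_option backward.isDefEq.respectTransparency false
set_option backward.isDefEq.respectTransparency.types false

open CategoryTheory CategoryTheory.Limits AlgebraicGeometry Topology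

namespace Groth.Agent.ConsPropLib

universe u

open Groth.Agent

variable {Z : Scheme.{u}}

/-- A point with a field as local ring has a neighbourhood of its specializations. -/
theorem exists_nhd_of_isField [IsLocallyNoetherian Z] (x : Z) (hx : IsField (Z.presheaf.stalk x)) :
    ∃ U : Set Z, IsOpen U ∧ x ∈ U ∧ ∀ y ∈ U, x ⤳ y := by
  classical
  obtain ⟨_, ⟨U, hU, rfl⟩, hxU, -⟩ :=
    Z.isBasis_affineOpens.exists_subset_of_mem_open (Set.mem_univ x) isOpen_univ
  have hU' : IsAffineOpen U := hU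
  haveI : IsNoetherianRing Γ(Z, U) := IsLocallyNoetherian.component_noetherian ⟨U, hU'⟩
  letI := Z.presheaf.algebra_section_stalk (U := U) ⟨x, hxU⟩
  set q := (hU'.primeIdealOf ⟨x, hxU⟩).asIdeal with hq
  haveI : IsLocalization.AtPrime (Z.presheaf.stalk x) q := hU'.isLocalization_stalk ⟨x, hxU⟩
  obtain ⟨t, ht⟩ := IsNoetherian.noetherian q
  have hkill : ∀ y ∈ q, ∃ u ∉ q, u * y = 0 := fun y hy => by
    have h0 : algebraMap Γ(Z, U) (Z.presheaf.stalk x) y = 0 := by
      have := Ideal.mem_map_of_mem (algebraMap Γ(Z, U) (Z.presheaf.stalk x)) hy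
      rwa [IsLocalization.AtPrime.map_eq_maximalIdeal q (Z.presheaf.stalk x),
        IsLocalRing.isField_iff_maximalIdeal_eq.1 hx, Ideal.mem_bot] at this
    obtain ⟨u, hu⟩ := (IsLocalization.map_eq_zero_iff q.primeCompl (Z.presheaf.stalk x) y).1 h0
    exact ⟨u, u.2, hu⟩
  choose u hu hu0 using fun y : t => hkill y.1 (ht ▸ Submodule.subset_span y.2)
  refine ⟨Z.basicOpen (∏ y, u y), (Z.basicOpen _).2,
    (QCoh.mem_basicOpen_iff_notMem hU' hxU _).2 fun h => ?_, fun y hy => ?_⟩
  · obtain ⟨i, -, hi⟩ := Ideal.IsPrime.prod_mem_iff.1 h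
    exact hu i hi
  · have hyU : y ∈ U := Z.basicOpen_le _ hy
    have hP := (QCoh.mem_basicOpen_iff_notMem hU' hyU _).1 hy
    have hle : q ≤ (hU'.primeIdealOf ⟨y, hyU⟩).asIdeal := by
      rw [← ht, Submodule.span_le]
      intro z hz
      refine ((hU'.primeIdealOf ⟨y, hyU⟩).2.mem_or_mem
        (show u ⟨z, hz⟩ * z ∈ _ by rw [hu0]; exact Submodule.zero_mem _)).resolve_left fun h => hP ?_
      exact Ideal.IsPrime.prod_mem_iff.2 ⟨_, Finset.mem_univ _, h⟩
    have h2 := ((PrimeSpectrum.le_iff_specializes _ _).1 hle).map hU'.fromSpec.continuous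
    rwa [hU'.fromSpec_primeIdealOf, hU'.fromSpec_primeIdealOf] at h2

/-- A point with a domain as local ring has a generization with a field as local ring, in any affine open. -/
theorem exists_field_generization {U : Z.Opens} (hU : IsAffineOpen U) (x : Z) (hxU : x ∈ U)
    [IsDomain (Z.presheaf.stalk x)] :
    ∃ (η : Z) (hη : η ∈ U), η ⤳ x ∧ IsField (Z.presheaf.stalk η) ∧
      ∀ a : Γ(Z, U), η ∈ Z.basicOpen a → Z.presheaf.germ U x hxU a ≠ 0 := by
  letI := Z.presheaf.algebra_section_stalk (U := U) ⟨x, hxU⟩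
  set p := (hU.primeIdealOf ⟨x, hxU⟩).asIdeal with hp
  haveI : IsLocalization.AtPrime (Z.presheaf.stalk x) p := hU.isLocalization_stalk ⟨x, hxU⟩
  let q : PrimeSpectrum Γ(Z, U) := ⟨RingHom.ker (algebraMap Γ(Z, U) (Z.presheaf.stalk x)), RingHom.ker_isPrime _⟩
  have hqp : q.asIdeal ≤ p := fun y hy => by
    by_contra h
    have := IsLocalization.map_units (Z.presheaf.stalk x) (⟨y, h⟩ : p.primeCompl)
    rw [RingHom.mem_ker.1 hy] at this
    exact not_isUnit_zero this
  have hηU : hU.fromSpec q ∈ U := by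
    have : hU.fromSpec q ∈ hU.fromSpec.opensRange := ⟨q, rfl⟩
    rwa [IsAffineOpen.opensRange_fromSpec] at this
  have hq : hU.primeIdealOf ⟨hU.fromSpec q, hηU⟩ = q :=
    hU.fromSpec.isOpenEmbedding.injective (hU.fromSpec_primeIdealOf ⟨_, hηU⟩)
  refine ⟨hU.fromSpec q, hηU, ?_, ?_, fun a ha => ?_⟩
  · have h2 := ((PrimeSpectrum.le_iff_specializes q (hU.primeIdealOf ⟨x, hxU⟩)).1 hqp).map hU.fromSpec.continuous
    rwa [hU.fromSpec_primeIdealOf] at h2
  · letI := Z.presheaf.algebra_section_stalk (U := U) ⟨hU.fromSpec q, hηU⟩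
    haveI : IsLocalization.AtPrime (Z.presheaf.stalk (hU.fromSpec q)) (hU.primeIdealOf ⟨_, hηU⟩).asIdeal :=
      hU.isLocalization_stalk ⟨_, hηU⟩
    rw [IsLocalRing.isField_iff_maximalIdeal_eq,
      ← IsLocalization.AtPrime.map_eq_maximalIdeal (hU.primeIdealOf ⟨_, hηU⟩).asIdeal
        (Z.presheaf.stalk (hU.fromSpec q)), Ideal.map_eq_bot_iff_le_ker]
    intro y hy
    rw [hq] at hy
    obtain ⟨v, hv⟩ := (IsLocalization.map_eq_zero_iff p.primeCompl (Z.presheaf.stalk x) y).1 hy
    rw [RingHom.mem_ker, IsLocalization.map_eq_zero_iff (hU.primeIdealOf ⟨_, hηU⟩).asIdeal.primeCompl]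
    exact ⟨⟨v.1, fun h => v.2 (hqp (hq ▸ h))⟩, hv⟩
  · have := (QCoh.mem_basicOpen_iff_notMem hU hηU a).1 ha
    rw [hq] at this
    exact fun h => this h

/-- On a locally integral scheme a module is torsion iff it vanishes on a dense open. -/
theorem forall_torsion_eq_top_iff [IsLocallyNoetherian Z] {M : Z.Modules} (hM : Coh.IsQCoh M)
    (hMft : CohB1.IsFT M) (hdom : ∀ x : Z, IsDomain (Z.presheaf.stalk x)) :
    (∀ x : Z, Submodule.torsion (Z.presheaf.stalk x) (M.presheaf.stalk x) = ⊤) ↔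
      Dense (CohB1.support M)ᶜ := by
  have hopen : IsOpen (CohB1.support M)ᶜ := (QCoh.isClosed_support_of_isFT hM hMft).isOpen_compl
  constructor
  · intro h x
    haveI := hdom x
    obtain ⟨_, ⟨U, hU, rfl⟩, hxU, -⟩ :=
      Z.isBasis_affineOpens.exists_subset_of_mem_open (Set.mem_univ x) isOpen_univ
    obtain ⟨η, -, hsp, hfld, -⟩ := exists_field_generization (show IsAffineOpen U from hU) x hxU
    have hη : η ∈ (CohB1.support M)ᶜ := by
      refine not_not.2 (subsingleton_of_forall_eq 0 fun m => ?_)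
      have hm : m ∈ Submodule.torsion (Z.presheaf.stalk η) (M.presheaf.stalk η) := by rw [h η]; trivial
      obtain ⟨⟨a, ha⟩, hm⟩ := hm
      haveI := hdom η
      obtain ⟨b, hb⟩ := hfld.mul_inv_cancel (nonZeroDivisors.ne_zero ha)
      calc m = (a * b) • m := by rw [hb, one_smul]
        _ = b • (a • m) := by rw [mul_comm, mul_smul]
        _ = 0 := by rw [show a • m = 0 from hm, smul_zero]
    exact closure_mono (Set.singleton_subset_iff.2 hη) (specializes_iff_mem_closure.1 hsp)
  · intro h x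
    haveI := hdom x
    rw [eq_top_iff]
    rintro m -
    obtain ⟨W, hxW, t, rfl⟩ := TopCat.Presheaf.exists_germ_eq M.presheaf m
    obtain ⟨U, hU, hxU, hUW'⟩ := exists_isAffineOpen_mem_and_subset (U := W) hxW
    have hUW : U ≤ W := hUW'
    rw [← M.presheaf.germ_res_apply (homOfLE hUW) x hxU t]
    obtain ⟨η, hηU, -, hfld, hne⟩ := exists_field_generization hU x hxU
    obtain ⟨O, hO, hηO, hspec⟩ := exists_nhd_of_isField η hfld
    obtain ⟨y, hyO, hy⟩ := h.inter_open_nonempty O hO ⟨η, hηO⟩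
    have hη : η ∈ (CohB1.support M)ᶜ := (hspec y hyO).mem_open hopen hy
    obtain ⟨a, hηa, ha⟩ := (QCoh.germ_eq_zero_iff hM hU hηU (M.presheaf.map (homOfLE hUW).op t)).1
      ((not_not.1 hη).elim _ _)
    refine ⟨⟨Z.presheaf.germ U x hxU a, mem_nonZeroDivisors_of_ne_zero (hne a hηa)⟩, ?_⟩
    show Z.presheaf.germ U x hxU a • M.presheaf.germ U x hxU _ = 0
    rw [← QCoh.germ_smul' M hxU]
    exact (congrArg _ ha).trans (map_zero _)

theorem isLocallyConstructible_of_isOpen [IsLocallyNoetherian Z] {W : Set Z} (hW : IsOpen W) :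
    IsLocallyConstructible W := fun x => by
  obtain ⟨V, hV, hxV, -⟩ := exists_isAffineOpen_mem_and_subset (U := (⊤ : Z.Opens)) (x := x) trivial
  refine ⟨V, V.2.mem_nhds hxV, V.2, ?_⟩
  haveI : IsAffine (V : Scheme.{u}) := hV
  haveI : IsNoetherian (V : Scheme.{u}) := ⟨⟩
  show IsConstructible (V.ι ⁻¹' W : Set (V : Scheme.{u}))
  exact (TopologicalSpace.NoetherianSpace.isCompact _).isConstructible (hW.preimage V.ι.continuous)

theorem fibre_apply {X S : Scheme.{u}} (f : X ⟶ S) {s : S} (w : ↥(f.fiber s)) : f (f.fiberι s w) = s :=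
  (Scheme.Hom.range_fiberι f s).le ⟨w, rfl⟩

/-- The locus of fibres on which a module is torsion, for locally integral fibres. -/
theorem isLocallyConstructible_torsionLocus {X S : Scheme.{u}} (f : X ⟶ S) [IsLocallyNoetherian S]
    [LocallyOfFiniteType f] [QuasiCompact f] {F : X.Modules} (hq : Coh.IsQCoh F) (hF : CohB1.IsFP F)
    (hint : ∀ (s : S) (x : ↥(f.fiber s)), IsDomain ((f.fiber s).presheaf.stalk x)) :
    IsLocallyConstructible {s : S | ∀ x : ↥(f.fiber s),
      Submodule.torsion ((f.fiber s).presheaf.stalk x)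
        (((Scheme.Modules.pullback (f.fiberι s)).obj F).presheaf.stalk x) = ⊤} := by
  haveI : IsLocallyNoetherian X := LocallyOfFiniteType.isLocallyNoetherian f
  haveI : LocallyOfFinitePresentation f := inferInstance
  have hft := QCoh.isFT_of_isFP hF
  have hW : IsOpen (CohB1.support F)ᶜ := (QCoh.isClosed_support_of_isFT hq hft).isOpen_compl
  convert Groth.Agent.S3427.result f (CohB1.support F)ᶜ Set.univ (isLocallyConstructible_of_isOpen hW)
    (isLocallyConstructible_of_isOpen isOpen_univ) (Set.subset_univ _) using 1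
  ext s
  haveI : IsLocallyNoetherian (f.fiber s) :=
    LocallyOfFiniteType.isLocallyNoetherian (f.fiberToSpecResidueField s)
  show (∀ x : ↥(f.fiber s), _) ↔ _
  rw [forall_torsion_eq_top_iff (QCoh.isQCoh_pullback _ hq)
    (QCoh.isFT_of_isFP (RGLib.Lim8.isFP_pullback _ hq hF)) (hint s), QCoh.support_pullback _ hq hft,
    ← Set.preimage_compl]
  constructor
  · rintro h y ⟨-, hy⟩
    obtain ⟨w, rfl⟩ : y ∈ Set.range (f.fiberι s) := by rw [Scheme.Hom.range_fiberι]; exact hy
    refine closure_mono ?_ (image_closure_subset_closure_image (f.fiberι s).continuous ⟨w, h w, rfl⟩)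
    rintro _ ⟨z, hz, rfl⟩
    exact ⟨hz, fibre_apply f z⟩
  · intro h w
    rw [(f.fiberι s).isEmbedding.closure_eq_preimage_closure_image]
    refine closure_mono ?_ (h ⟨trivial, show f (f.fiberι s w) = s from fibre_apply f w⟩)
    rintro z ⟨hz1, hz2⟩
    obtain ⟨w', rfl⟩ : z ∈ Set.range (f.fiberι s) := by rw [Scheme.Hom.range_fiberι]; exact hz2
    exact ⟨w', hz1, rfl⟩

end Groth.Agent.ConsPropLib
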